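import Mathlib

set_option autoImplicit false

namespace Cfsg.Agent.Lib.Helper4.O73C

/-! # Polycyclic sequences: normal forms and the order of the group they generate -/

variable {G : Type*} [Group G]

/-- the product of the powers of the elements of a list, the exponents being the digits of `e`
in base `p` -/
def nfProd (p : ℕ) : List G → ℕ → G
  | [], _ => 1
  | g :: gs, e => g ^ (e % p) * nfProd p gs (e / p)

/-- the subgroup generated by a list -/
def gsub (gs : List G) : Subgroup G := Subgroup.closure {x | x ∈ gs}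

theorem gsub_nil : gsub ([] : List G) = ⊥ := by
  unfold gsub
  have : {x : G | x ∈ ([] : List G)} = ∅ := by
    ext x
    simp
  rw [this, Subgroup.closure_empty]

theorem mem_gsub_of_mem {gs : List G} {x : G} (h : x ∈ gs) : x ∈ gsub gs :=
  Subgroup.subset_closure h

theorem gsub_le_cons (g : G) (gs : List G) : gsub gs ≤ gsub (g :: gs) :=
  Subgroup.closure_mono (fun _ hx => List.mem_cons_of_mem g hx)

theorem setOf_mem_cons (g : G) (gs : List G) :
    {x | x ∈ g :: gs} = insert g {x | x ∈ gs} := by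
  ext x
  simp [List.mem_cons]

theorem nfProd_mem (p : ℕ) : ∀ (gs : List G) (e : ℕ), nfProd p gs e ∈ gsub gs
  | [], _ => Subgroup.one_mem _
  | g :: gs, e =>
    Subgroup.mul_mem _ (Subgroup.pow_mem _ (mem_gsub_of_mem List.mem_cons_self) _)
      (gsub_le_cons g gs (nfProd_mem p gs (e / p)))

/-- the hypotheses of a polycyclic sequence with all the factors of order dividing `p` -/
def PCok (p : ℕ) : List G → Prop
  | [] => True
  | g :: gs => PCok p gs ∧ g ^ p ∈ gsub gs ∧ ∀ h ∈ gs, g * h * g⁻¹ ∈ gsub gs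

/-- the sequence is strictly increasing -/
def PCstrict : List G → Prop
  | [] => True
  | g :: gs => PCstrict gs ∧ g ∉ gsub gs

/-- an element normalises the subgroup generated by a set as soon as it conjugates the generators
into it and one of its positive powers lies in it -/
theorem mem_normalizer_of_gens {S : Set G} {g : G} {p : ℕ} (hp : 0 < p)
    (hpow : g ^ p ∈ Subgroup.closure S) (hconj : ∀ h ∈ S, g * h * g⁻¹ ∈ Subgroup.closure S) :
    g ∈ Subgroup.normalizer ((Subgroup.closure S : Subgroup G) : Set G) := by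
  have h1 : ∀ n ∈ Subgroup.closure S, g * n * g⁻¹ ∈ Subgroup.closure S := by
    intro n hn
    have hle : Subgroup.closure S ≤ (Subgroup.closure S).comap (MulAut.conj g).toMonoidHom := by
      rw [Subgroup.closure_le]
      intro h hh
      exact hconj h hh
    exact hle hn
  have h2 : ∀ k : ℕ, ∀ n ∈ Subgroup.closure S, g ^ k * n * (g ^ k)⁻¹ ∈ Subgroup.closure S := by
    intro k
    induction k with
    | zero => intro n hn; simpa using hn
    | succ k ih =>
      intro n hn
      have h := h1 _ (ih n hn)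
      have e : g ^ (k + 1) * n * (g ^ (k + 1))⁻¹ = g * (g ^ k * n * (g ^ k)⁻¹) * g⁻¹ := by
        rw [pow_succ']
        group
      rw [e]
      exact h
  rw [Subgroup.mem_normalizer_iff]
  intro n
  refine ⟨h1 n, fun hn => ?_⟩
  have h3 := h2 (p - 1) _ hn
  have h4 : g ^ (p - 1) * (g * n * g⁻¹) * (g ^ (p - 1))⁻¹ = g ^ p * n * (g ^ p)⁻¹ := by
    obtain ⟨q, rfl⟩ : ∃ q, p = q + 1 := ⟨p - 1, by omega⟩
    rw [Nat.add_sub_cancel, pow_succ]
    group
  rw [h4] at h3
  have h5 := (Subgroup.closure S).mul_mem ((Subgroup.closure S).mul_mem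
    ((Subgroup.closure S).inv_mem hpow) h3) hpow
  have e : (g ^ p)⁻¹ * (g ^ p * n * (g ^ p)⁻¹) * g ^ p = n := by group
  rw [e] at h5
  exact h5

/-- the elements of the subgroup generated by `g` and a subgroup normalised by `g` -/
theorem exists_zpow_mul {S : Set G} {g : G} (hg : g ∈ Subgroup.normalizer ((Subgroup.closure S : Subgroup G) : Set G)) :
    ∀ x ∈ Subgroup.closure (insert g S), ∃ a : ℤ, ∃ n ∈ Subgroup.closure S, x = g ^ a * n := by
  intro x hx
  induction hx using Subgroup.closure_induction with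
  | mem y hy =>
    rcases hy with rfl | hy
    · exact ⟨1, 1, Subgroup.one_mem _, by simp⟩
    · exact ⟨0, y, Subgroup.subset_closure hy, by simp⟩
  | one => exact ⟨0, 1, Subgroup.one_mem _, by simp⟩
  | mul x y _ _ hx hy =>
    obtain ⟨a, n, hn, rfl⟩ := hx
    obtain ⟨b, m, hm, rfl⟩ := hy
    have hb : g ^ (-b) ∈ Subgroup.normalizer ((Subgroup.closure S : Subgroup G) : Set G) := Subgroup.zpow_mem _ hg _
    have h1 := (Subgroup.mem_normalizer_iff.mp hb n).mp hn
    refine ⟨a + b, g ^ (-b) * n * (g ^ (-b))⁻¹ * m, Subgroup.mul_mem _ h1 hm, ?_⟩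
    rw [zpow_add, zpow_neg]
    group
  | inv x _ hx =>
    obtain ⟨a, n, hn, rfl⟩ := hx
    have ha : g ^ a ∈ Subgroup.normalizer ((Subgroup.closure S : Subgroup G) : Set G) := Subgroup.zpow_mem _ hg _
    have h1 := (Subgroup.mem_normalizer_iff.mp ha n⁻¹).mp (Subgroup.inv_mem _ hn)
    refine ⟨-a, g ^ a * n⁻¹ * (g ^ a)⁻¹, h1, ?_⟩
    rw [zpow_neg]
    group

/-- the same with the exponent reduced -/
theorem exists_pow_mul {S : Set G} {g : G} {p : ℕ} (hp : 0 < p)
    (hpow : g ^ p ∈ Subgroup.closure S) (hconj : ∀ h ∈ S, g * h * g⁻¹ ∈ Subgroup.closure S) :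
    ∀ x ∈ Subgroup.closure (insert g S), ∃ r < p, ∃ n ∈ Subgroup.closure S, x = g ^ r * n := by
  intro x hx
  obtain ⟨a, n, hn, rfl⟩ := exists_zpow_mul (mem_normalizer_of_gens hp hpow hconj) x hx
  have hp' : (p : ℤ) ≠ 0 := by exact_mod_cast hp.ne'
  have h0 : 0 ≤ a % (p : ℤ) := Int.emod_nonneg a hp'
  have h1 : a % (p : ℤ) < p := Int.emod_lt_of_pos a (by exact_mod_cast hp)
  refine ⟨(a % (p : ℤ)).toNat, ?_, (g ^ p) ^ (a / (p : ℤ)) * n,
    Subgroup.mul_mem _ (Subgroup.zpow_mem _ hpow _) hn, ?_⟩
  · have : ((a % (p : ℤ)).toNat : ℤ) < p := by rw [Int.toNat_of_nonneg h0]; exact h1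
    exact_mod_cast this
  · have e1 : g ^ (a % (p : ℤ)).toNat = g ^ (a % (p : ℤ)) := by
      rw [← zpow_natCast, Int.toNat_of_nonneg h0]
    have e2 : (g ^ p) ^ (a / (p : ℤ)) = g ^ ((p : ℤ) * (a / (p : ℤ))) := by
      rw [zpow_mul, zpow_natCast]
    rw [e1, e2, ← mul_assoc, ← zpow_add, Int.emod_add_mul_ediv]

/-- every element of the group generated by a polycyclic sequence is a normal form -/
theorem exists_nf {p : ℕ} (hp : 0 < p) : ∀ (gs : List G), PCok p gs →
    ∀ x ∈ gsub gs, ∃ e < p ^ gs.length, x = nfProd p gs e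
  | [], _, x, hx => by
    rw [gsub_nil, Subgroup.mem_bot] at hx
    exact ⟨0, by simp, by rw [hx]; rfl⟩
  | g :: gs, h, x, hx => by
    obtain ⟨hgs, hpow, hconj⟩ := h
    unfold gsub at hx
    rw [setOf_mem_cons] at hx
    obtain ⟨r, hr, n, hn, rfl⟩ := exists_pow_mul hp hpow (fun h hh => hconj h hh) x hx
    obtain ⟨e', he', rfl⟩ := exists_nf hp gs hgs n hn
    refine ⟨r + p * e', ?_, ?_⟩
    · rw [List.length_cons, pow_succ]
      calc r + p * e' < p + p * e' := by omega
        _ = p * (e' + 1) := by ring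
        _ ≤ p * p ^ gs.length := Nat.mul_le_mul_left p he'
        _ = p ^ gs.length * p := by ring
    · show _ = g ^ ((r + p * e') % p) * nfProd p gs ((r + p * e') / p)
      rw [Nat.add_mul_mod_self_left, Nat.mod_eq_of_lt hr, Nat.add_mul_div_left _ _ hp,
        Nat.div_eq_of_lt hr, zero_add]

theorem mem_of_pow_mem_of_coprime {N : Subgroup G} {g : G} {k p : ℕ} (hk : g ^ k ∈ N)
    (hp : g ^ p ∈ N) (hc : Nat.Coprime k p) : g ∈ N := by
  have h1 : (1 : ℤ) = k * Nat.gcdA k p + p * Nat.gcdB k p := by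
    have := Nat.gcd_eq_gcd_ab k p
    rw [hc] at this
    exact_mod_cast this
  have h2 : g = (g ^ k) ^ (Nat.gcdA k p) * (g ^ p) ^ (Nat.gcdB k p) := by
    rw [← zpow_natCast, ← zpow_natCast, ← zpow_mul, ← zpow_mul, ← zpow_add, ← h1, zpow_one]
  rw [h2]
  exact N.mul_mem (N.zpow_mem hk _) (N.zpow_mem hp _)

/-- the order of the group generated by a strict polycyclic sequence -/
theorem card_gsub [Finite G] {p : ℕ} (hp : p.Prime) : ∀ (gs : List G), PCok p gs → PCstrict gs →
    Nat.card (gsub gs) = p ^ gs.length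
  | [], _, _ => by
    rw [gsub_nil, Subgroup.card_bot]
    rfl
  | g :: gs, h, hs => by
    obtain ⟨hgs, hpow, hconj⟩ := h
    obtain ⟨hs1, hs2⟩ := hs
    have ih := card_gsub hp gs hgs hs1
    have hgm : g ∈ gsub (g :: gs) := mem_gsub_of_mem List.mem_cons_self
    let f : Fin p × gsub gs → gsub (g :: gs) := fun an =>
      ⟨g ^ an.1.val * an.2.val, Subgroup.mul_mem _ (Subgroup.pow_mem _ hgm _)
        (gsub_le_cons g gs an.2.2)⟩
    have key : ∀ a b : ℕ, a < b → b < p → ∀ n m : gsub gs,
        g ^ a * n.val = g ^ b * m.val → False := by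
      intro a b hab hbp n m e
      have h1 : g ^ (b - a) = n.val * m.val⁻¹ := by
        have : g ^ b = g ^ a * g ^ (b - a) := by rw [← pow_add]; congr 1; omega
        rw [this, mul_assoc] at e
        have e2 := mul_left_cancel e
        rw [e2]
        group
      have h2 : g ^ (b - a) ∈ gsub gs := by
        rw [h1]
        exact Subgroup.mul_mem _ n.2 (Subgroup.inv_mem _ m.2)
      have hc : Nat.Coprime (b - a) p := by
        rw [Nat.coprime_comm]
        exact (Nat.Prime.coprime_iff_not_dvd hp).mpr (fun hd => by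
          have := Nat.le_of_dvd (by omega) hd
          omega)
      exact hs2 (mem_of_pow_mem_of_coprime h2 hpow hc)
    have hinj : Function.Injective f := by
      rintro ⟨a, n⟩ ⟨b, m⟩ e
      have e' : g ^ a.val * n.val = g ^ b.val * m.val := congrArg Subtype.val e
      have hab : a.val = b.val := by
        rcases Nat.lt_trichotomy a.val b.val with h | h | h
        · exact (key _ _ h b.isLt n m e').elim
        · exact h
        · exact (key _ _ h a.isLt m n e'.symm).elim
      have hab' : a = b := Fin.ext hab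
      subst hab'
      have : n.val = m.val := mul_left_cancel e'
      have : n = m := Subtype.ext this
      rw [this]
    have hsurj : Function.Surjective f := by
      rintro ⟨x, hx⟩
      unfold gsub at hx
      rw [setOf_mem_cons] at hx
      obtain ⟨r, hr, n, hn, rfl⟩ :=
        exists_pow_mul hp.pos hpow (fun h hh => hconj h hh) x hx
      exact ⟨(⟨r, hr⟩, ⟨n, hn⟩), rfl⟩
    have hc := Nat.card_eq_of_bijective f ⟨hinj, hsurj⟩
    rw [← hc, Nat.card_prod, Nat.card_fin, ih, List.length_cons, pow_succ, mul_comm]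

end Cfsg.Agent.Lib.Helper4.O73C
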