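import Mathlib

set_option autoImplicit false

namespace Cfsg.Agent.Lib.Helper4.O73C

/-! # Subgroups of prime order up to conjugacy -/

variable {G : Type*} [Group G]

/-- a subgroup of prime order is conjugate to a subgroup of a Sylow subgroup -/
theorem exists_conj_le_of_card [Finite G] {p : ℕ} [Fact p.Prime] (P : Subgroup G)
    (hP : Nat.card P = p ^ (Nat.card G).factorization p) (X : Subgroup G)
    (hX : Nat.card X = p) : ∃ g : G, X.map (MulAut.conj g).toMonoidHom ≤ P := by
  have hXp : IsPGroup p X := IsPGroup.of_card (n := 1) (by rw [hX, pow_one])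
  obtain ⟨Q, hle⟩ := hXp.exists_le_sylow
  let S : Sylow p G := Sylow.ofCard P hP
  obtain ⟨g, hg⟩ := MulAction.exists_smul_eq G Q S
  refine ⟨g, ?_⟩
  intro y hy
  obtain ⟨x, hx, rfl⟩ := Subgroup.mem_map.mp hy
  have hxQ : x ∈ (Q : Subgroup G) := hle hx
  have h1 : g * x * g⁻¹ ∈ (S : Subgroup G) := by
    rw [← hg, Sylow.coe_subgroup_smul, Subgroup.mem_pointwise_smul_iff_inv_smul_mem]
    simp only [MulAut.smul_def, MulAut.conj_inv_apply]
    have : g⁻¹ * (g * x * g⁻¹) * g = x := by group
    rw [this]
    exact hxQ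
  exact h1

/-- a subgroup of prime order is generated by each of its non-trivial elements -/
theorem eq_zpowers_of_card_prime [Finite G] {p : ℕ} (hp : p.Prime) (X : Subgroup G)
    (hX : Nat.card X = p) {x : G} (hx : x ∈ X) (h1 : x ≠ 1) :
    X = Subgroup.zpowers x ∧ orderOf x = p := by
  have hle : Subgroup.zpowers x ≤ X := by
    rw [Subgroup.zpowers_le]
    exact hx
  have hd : Nat.card (Subgroup.zpowers x) ∣ p := by
    rw [← hX]
    exact Subgroup.card_dvd_of_le hle
  rw [Nat.card_zpowers] at hd
  have ho : orderOf x = p := by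
    rcases (Nat.dvd_prime hp).mp hd with h | h
    · exact absurd (orderOf_eq_one_iff.mp h) h1
    · exact h
  refine ⟨?_, ho⟩
  symm
  apply Subgroup.eq_of_le_of_card_ge hle
  rw [Nat.card_zpowers, ho, hX]

theorem exists_ne_one_of_card_prime [Finite G] {p : ℕ} (hp : p.Prime) (X : Subgroup G)
    (hX : Nat.card X = p) : ∃ x ∈ X, x ≠ 1 := by
  by_contra h
  push Not at h
  have : X = ⊥ := by
    rw [eq_bot_iff]
    intro x hx
    rw [Subgroup.mem_bot]
    exact h x hx
  rw [this, Subgroup.card_bot] at hX
  exact hp.one_lt.ne hX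

theorem map_conj_zpowers (g x : G) :
    (Subgroup.zpowers x).map (MulAut.conj g).toMonoidHom = Subgroup.zpowers (g * x * g⁻¹) := by
  rw [MonoidHom.map_zpowers]
  rfl

theorem map_conj_map_conj (g h : G) (X : Subgroup G) :
    (X.map (MulAut.conj h).toMonoidHom).map (MulAut.conj g).toMonoidHom =
      X.map (MulAut.conj (g * h)).toMonoidHom := by
  rw [Subgroup.map_map]
  congr 1
  ext x
  simp [MulAut.conj_apply, mul_assoc]

/-- the subgroup generated by `x` is conjugate to one of the subgroups of a family -/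
def CS {ι : Type*} (Y : ι → Subgroup G) (x : G) : Prop :=
  ∃ i, ∃ g : G, (Subgroup.zpowers x).map (MulAut.conj g).toMonoidHom = Y i

theorem CS_conj {ι : Type*} (Y : ι → Subgroup G) (x f : G) (h : CS Y x) :
    CS Y (f * x * f⁻¹) := by
  obtain ⟨i, g, hg⟩ := h
  refine ⟨i, g * f⁻¹, ?_⟩
  rw [← map_conj_zpowers, map_conj_map_conj]
  have : g * f⁻¹ * f = g := by group
  rw [this]
  exact hg

theorem CS_of_eq_conj {ι : Type*} (Y : ι → Subgroup G) {x y f : G} (e : x * f = f * y)
    (h : CS Y y) : CS Y x := by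
  have : x = f * y * f⁻¹ := by
    rw [← e]
    group
  rw [this]
  exact CS_conj Y y f h

theorem orderOf_eq_of_mul_eq {x y f : G} (e : x * f = f * y) : orderOf y = orderOf x := by
  have : x = MulAut.conj f y := by
    rw [MulAut.conj_apply, ← e]
    group
  rw [this, MulEquiv.orderOf_eq]

/-- the classes of subgroups of a given order, transported along an isomorphism -/
theorem classes_transport {H : Type*} [Group H] (e : G ≃* H) (n k : ℕ)
    (h : ∃ Y : Fin n → Subgroup G, (∀ i, Nat.card (Y i) = k) ∧
      (∀ i j, (∃ g : G, (Y i).map (MulAut.conj g).toMonoidHom = Y j) → i = j) ∧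
      (∀ X : Subgroup G, Nat.card X = k →
        ∃ i, ∃ g : G, X.map (MulAut.conj g).toMonoidHom = Y i)) :
    ∃ Y : Fin n → Subgroup H, (∀ i, Nat.card (Y i) = k) ∧
      (∀ i j, (∃ g : H, (Y i).map (MulAut.conj g).toMonoidHom = Y j) → i = j) ∧
      (∀ X : Subgroup H, Nat.card X = k →
        ∃ i, ∃ g : H, X.map (MulAut.conj g).toMonoidHom = Y i) := by
  obtain ⟨Y, h1, h2, h3⟩ := h
  have key : ∀ (X : Subgroup G) (g : G),
      (X.map (MulAut.conj g).toMonoidHom).map e.toMonoidHom =
        (X.map e.toMonoidHom).map (MulAut.conj (e g)).toMonoidHom := by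
    intro X g
    rw [Subgroup.map_map, Subgroup.map_map]
    congr 1
    ext x
    simp [MulAut.conj_apply]
  have hinj : Function.Injective (Subgroup.map e.toMonoidHom) :=
    Subgroup.map_injective e.injective
  refine ⟨fun i => (Y i).map e.toMonoidHom, ?_, ?_, ?_⟩
  · intro i
    rw [Subgroup.card_map_of_injective e.injective]
    exact h1 i
  · rintro i j ⟨g, hg⟩
    apply h2 i j
    refine ⟨e.symm g, ?_⟩
    apply hinj
    rw [key, MulEquiv.apply_symm_apply]
    exact hg
  · intro X hX
    have hc : Nat.card (X.comap e.toMonoidHom) = k := by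
      have e1 : (X.comap e.toMonoidHom).map e.toMonoidHom = X :=
        Subgroup.map_comap_eq_self_of_surjective e.surjective X
      have := Subgroup.card_map_of_injective (f := e.toMonoidHom)
        (K := X.comap e.toMonoidHom) e.injective
      rw [e1] at this
      rw [← this]
      exact hX
    obtain ⟨i, g, hg⟩ := h3 _ hc
    refine ⟨i, e g, ?_⟩
    have e1 : (X.comap e.toMonoidHom).map e.toMonoidHom = X :=
      Subgroup.map_comap_eq_self_of_surjective e.surjective X
    show _ = (Y i).map e.toMonoidHom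
    rw [← hg, key, e1]

end Cfsg.Agent.Lib.Helper4.O73C
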