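import Cfsg.Agent.Lib.Helper6.LB3
import Cfsg.Agent.Lib.Helper4.O73C.A1

set_option autoImplicit false

namespace Cfsg.Agent.Lib.Helper4.O73C

open Cfsg.Agent.Lib.Helper6.TC

/-! # Elements of a permutation representation given by tables -/

variable {G : Type*} [Group G] {N : ℕ} (φ : G →* Equiv.Perm (Fin N))

/-- the inverse of the element acts as the table -/
def GoodT (x : G) (T : ℕ → ℕ) : Prop := ∀ p : Fin N, ((φ x)⁻¹ p).val = T p.val

variable {φ}

theorem GoodT.congr {x : G} {T U : ℕ → ℕ} (h : GoodT φ x T) (e : ∀ p < N, T p = U p) :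
    GoodT φ x U := by
  intro p
  rw [h p, e p.val p.isLt]

theorem goodT_one : GoodT φ 1 (fun p => p) := by
  intro p
  rw [map_one, inv_one]
  rfl

theorem GoodT.mul {x y : G} {T U : ℕ → ℕ} (hx : GoodT φ x T) (hy : GoodT φ y U) :
    GoodT φ (x * y) (fun p => U (T p)) := by
  intro p
  rw [map_mul, mul_inv_rev, Equiv.Perm.mul_apply, hy, hx]

/-- the powers of a table, with exponents at most two -/
def pw3 (T : ℕ → ℕ) (a p : ℕ) : ℕ :=
  Nat.rec p (fun k _ => Nat.rec (T p) (fun _ _ => T (T p)) k) a

theorem GoodT.pw3 {x : G} {T : ℕ → ℕ} (hx : GoodT φ x T) {a : ℕ} (ha : a < 3) :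
    GoodT φ (x ^ a) (pw3 T a) := by
  interval_cases a
  · rw [pow_zero]
    exact goodT_one
  · rw [pow_one]
    exact hx
  · rw [pow_two]
    exact hx.mul hx

/-- the action of a normal form -/
def nfAppL : List (ℕ → ℕ) → ℕ → ℕ → ℕ
  | [], _, p => p
  | T :: Ts, e, p => nfAppL Ts (e / 3) (pw3 T (e % 3) p)

theorem good_nfProd {gs : List G} {Ts : List (ℕ → ℕ)} (h : List.Forall₂ (GoodT φ) gs Ts) :
    ∀ e, GoodT φ (nfProd 3 gs e) (nfAppL Ts e) := by
  induction h with
  | nil =>
    intro e
    exact goodT_one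
  | cons hgT _ ih =>
    intro e
    exact (hgT.pw3 (Nat.mod_lt e (by norm_num))).mul (ih (e / 3))

/-- two elements acting in the same way on a base are equal -/
theorem eq_of_good {bs : List (Fin N)} (hbot : ptFix φ bs = ⊥) {x y : G} {T U : ℕ → ℕ}
    (hx : GoodT φ x T) (hy : GoodT φ y U) (h : ∀ b ∈ bs, T b.val = U b.val) : x = y := by
  have hm : y * x⁻¹ ∈ ptFix φ bs := by
    rw [mem_ptFix]
    intro b hb
    rw [map_mul, map_inv, Equiv.Perm.mul_apply]
    have e : (φ x)⁻¹ b = (φ y)⁻¹ b := by
      apply Fin.ext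
      rw [hx b, hy b, h b hb]
    rw [e]
    exact Equiv.apply_symm_apply (φ y) b
  rw [hbot, Subgroup.mem_bot] at hm
  exact (mul_inv_eq_one.mp hm).symm

theorem ne_of_good {x y : G} {T U : ℕ → ℕ} (hx : GoodT φ x T) (hy : GoodT φ y U) (b : Fin N)
    (h : T b.val ≠ U b.val) : x ≠ y := by
  intro e
  apply h
  rw [← hx b, ← hy b, e]

/-- counting the points of `Fin N` satisfying a Boolean predicate -/
theorem ncard_fin_setOf (N : ℕ) (f : ℕ → Bool) :
    {p : Fin N | f p.val = true}.ncard = ((List.range N).filter f).length := by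
  classical
  have h1 : {p : Fin N | f p.val = true}.ncard =
      (Finset.univ.filter (fun p : Fin N => f p.val = true)).card := by
    rw [← Set.ncard_coe_finset]
    congr 1
    ext p
    simp
  rw [h1]
  have h2 : (Finset.univ.filter (fun p : Fin N => f p.val = true)).card =
      ((Finset.range N).filter (fun i => f i = true)).card := by
    rw [← Finset.card_map Fin.valEmbedding]
    congr 1
    ext i
    simp only [Finset.mem_map, Finset.mem_filter, Finset.mem_univ, true_and, Fin.valEmbedding_apply,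
      Finset.mem_range]
    constructor
    · rintro ⟨p, hp, rfl⟩
      exact ⟨p.isLt, hp⟩
    · rintro ⟨hi, hf⟩
      exact ⟨⟨i, hi⟩, hf, rfl⟩
  rw [h2]
  rw [Finset.card_def]
  show Multiset.card (Multiset.filter _ (Multiset.range N)) = _
  rw [Multiset.range, Multiset.filter_coe, Multiset.coe_card]
  congr 1
  apply List.filter_congr
  intro x _
  simp

/-- the number of points moved by an element given by a table -/
theorem support_card_of_good {x : G} {T : ℕ → ℕ} (hx : GoodT φ x T) :
    (φ x).support.card = ((List.range N).filter (fun p => T p != p)).length := by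
  rw [← ncard_fin_setOf N (fun p => T p != p), ← Equiv.Perm.support_inv, ← Set.ncard_coe_finset]
  congr 1
  ext p
  simp only [Finset.mem_coe, Equiv.Perm.mem_support, Set.mem_ofPred_eq, bne_iff_ne, ne_eq]
  rw [← hx p]
  exact ⟨fun h e => h (Fin.ext e), fun h e => h (congrArg Fin.val e)⟩

/-- the elements preserving a set of points given by a Boolean predicate -/
def blockStab (φ : G →* Equiv.Perm (Fin N)) (inB : ℕ → Bool) : Subgroup G where
  carrier := {x | ∀ p : Fin N, inB ((φ x)⁻¹ p).val = inB p.val}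
  one_mem' := by
    intro p
    rw [map_one, inv_one]
    rfl
  mul_mem' := by
    intro x y hx hy p
    rw [map_mul, mul_inv_rev, Equiv.Perm.mul_apply, hy, hx]
  inv_mem' := by
    intro x hx p
    have := hx ((φ x) p)
    have e : (φ x)⁻¹ ((φ x) p) = p := Equiv.symm_apply_apply (φ x) p
    rw [e] at this
    rw [map_inv, inv_inv]
    exact this.symm

theorem gsub_le_blockStab (inB : ℕ → Bool) {gs : List G} {Ts : List (ℕ → ℕ)}
    (h : List.Forall₂ (GoodT φ) gs Ts) (hT : ∀ T ∈ Ts, ∀ p < N, inB (T p) = inB p) :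
    gsub gs ≤ blockStab φ inB := by
  unfold gsub
  rw [Subgroup.closure_le]
  induction h with
  | nil =>
    intro x hx
    exact absurd hx (by simp)
  | @cons g T gs Ts hgT _ ih =>
    intro x hx
    rcases List.mem_cons.mp hx with rfl | hx
    · intro p
      rw [hgT p]
      exact hT T List.mem_cons_self p.val p.isLt
    · exact ih (fun U hU => hT U (List.mem_cons_of_mem _ hU)) hx

theorem notMem_gsub_of_block (inB : ℕ → Bool) {gs : List G} {Ts : List (ℕ → ℕ)}
    (h : List.Forall₂ (GoodT φ) gs Ts) (hT : ∀ T ∈ Ts, ∀ p < N, inB (T p) = inB p)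
    {g : G} {T : ℕ → ℕ} (hg : GoodT φ g T) (b : Fin N) (hb : inB (T b.val) ≠ inB b.val) :
    g ∉ gsub gs := by
  intro hm
  have := gsub_le_blockStab inB h hT hm b
  rw [hg b] at this
  exact hb this

end Cfsg.Agent.Lib.Helper4.O73C
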