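import Cfsg.Agent.Lib.Helper4.O73C.D1
import Cfsg.Agent.Lib.Helper4.O73C.D2

set_option autoImplicit false

namespace Cfsg.Agent.Lib.Helper4.O73C

/-! # The Boolean checks of the conjugation certificate -/

/-- two tables agree on the base -/
noncomputable def eq6 (T U : ℕ → ℕ) : Bool :=
  Nat.beq (T 0) (U 0) && Nat.beq (T 1) (U 1) && Nat.beq (T 20) (U 20) &&
    Nat.beq (T 84) (U 84) && Nat.beq (T 3) (U 3) && Nat.beq (T 4) (U 4)

/-- the check of `x_e * f = f * x_e'` -/
noncomputable def fuseChk (f e e' : ℕ) : Bool :=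
  eq6 (fun p => fT f (nfA1 e p)) (fun p => nfA1 e' (fT f p))

/-- the cube of a normal form is not trivial -/
noncomputable def mv3 (e : ℕ) : Bool :=
  !(eq6 (fun p => nfA1 e (nfA1 e (nfA1 e p))) (fun p => p))

/-- the check of an entry of the certificate -/
noncomputable def chk (e : ℕ) : Bool :=
  Nat.rec (motive := fun _ => Bool) (Nat.beq e 0 || mv3 e)
    (fun k _ => Nat.rec (motive := fun _ => Bool)
      (Nat.blt (fusc e) 7 && Nat.beq (rootCode (fusc e)) e)
      (fun _ _ => Nat.blt (parc e) 19683 && Nat.blt (rkc (parc e)) (rkc e) &&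
        Nat.blt (fusc e) 12 &&
        Nat.rec (motive := fun _ => Bool) (fuseChk (fusc e) e (parc e))
          (fun _ _ => fuseChk (fusc e) (parc e) e) (dirc e)) k)
    (kindc e)

/-- the check of a range of entries -/
noncomputable def chkRange (a n : ℕ) : Bool := (List.range n).all (fun i => chk (i + a))

end Cfsg.Agent.Lib.Helper4.O73C
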