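import Cfsg.Agent.Lib.Helper6.Spor.O73Ord
import Cfsg.Agent.Lib.Helper4.O73C.A3
import Cfsg.Agent.Lib.Helper4.O73C.D1

set_option autoImplicit false

namespace Cfsg.Agent.Lib.Helper4.O73C

open Cfsg.Agent.Lib.Helper6 Cfsg.Agent.Lib.Helper6.TC Cfsg.Agent.Lib.Helper6.TCD
open Cfsg.Agent.Lib.Helper6.TCP.O73

/-! # The group `O73` on 364 points: elements given by words -/

/-- the group -/
abbrev GG : Type := Cfsg.Agent.Lib.Helper6.TCP.O73.G

/-- the action on 364 points -/
noncomputable def φ : GG →* Equiv.Perm (Fin 364) := Classical.choose O73Ord.rep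

theorem φ_hw : ∀ w, (∀ c ∈ w, c < 8) → ∀ p : Fin 364,
    ((φ (PresentedGroup.mk Rels (wordElt gc w)))⁻¹ p).val = wapp O73a.px w p.val :=
  (Classical.choose_spec O73Ord.rep).1

instance finite_GG : Finite GG := (Classical.choose_spec O73Ord.rep).2.2.2.2.2

theorem card_GG : Nat.card GG = 4585351680 := (Classical.choose_spec O73Ord.rep).2.2.2.2.1

/-- the base -/
def bs6 : List (Fin 364) :=
  [⟨4, by decide⟩, ⟨3, by decide⟩, ⟨84, by decide⟩, ⟨20, by decide⟩, ⟨1, by decide⟩, ⟨0, by decide⟩]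

theorem hbot : ptFix φ bs6 = ⊥ :=
  ptFix_eq_bot_of_card (O73aL.chain_lb (φ := φ) φ_hw) (le_of_eq card_GG) (by norm_num)

/-- the element of a word -/
noncomputable def elt (w : List ℕ) : GG := PresentedGroup.mk Rels (wordElt gc w)

theorem elt_append (u v : List ℕ) : elt (u ++ v) = elt u * elt v := by
  unfold elt
  rw [wordElt_append, map_mul]

theorem elt_nil : elt [] = 1 := by
  unfold elt
  rw [wordElt_nil, map_one]

theorem good_elt (w : List ℕ) (hw : ∀ c ∈ w, c < 8) : GoodT φ (elt w) (wapp O73a.px w) :=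
  fun p => φ_hw w hw p

/-- a word whose action is given by a table -/
theorem good_elt_of_table {w : List ℕ} {T : ℕ → ℕ} (hw : ∀ c ∈ w, c < 8)
    (h : ∀ p < 364, wapp O73a.px w p = T p) : GoodT φ (elt w) T :=
  (good_elt w hw).congr h

/-- equality of elements from the base -/
theorem eq_of_good6 {x y : GG} {T U : ℕ → ℕ} (hx : GoodT φ x T) (hy : GoodT φ y U)
    (h : (Nat.beq (T 0) (U 0) && Nat.beq (T 1) (U 1) && Nat.beq (T 20) (U 20) &&
      Nat.beq (T 84) (U 84) && Nat.beq (T 3) (U 3) && Nat.beq (T 4) (U 4)) = true) : x = y := by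
  simp only [Bool.and_eq_true] at h
  obtain ⟨⟨⟨⟨⟨h0, h1⟩, h20⟩, h84⟩, h3⟩, h4⟩ := h
  replace h0 := Nat.eq_of_beq_eq_true h0
  replace h1 := Nat.eq_of_beq_eq_true h1
  replace h20 := Nat.eq_of_beq_eq_true h20
  replace h84 := Nat.eq_of_beq_eq_true h84
  replace h3 := Nat.eq_of_beq_eq_true h3
  replace h4 := Nat.eq_of_beq_eq_true h4
  apply eq_of_good hbot hx hy
  intro b hb
  simp only [bs6, List.mem_cons, List.mem_nil_iff, or_false] at hb
  rcases hb with rfl | rfl | rfl | rfl | rfl | rfl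
  · exact h4
  · exact h3
  · exact h84
  · exact h20
  · exact h1
  · exact h0

end Cfsg.Agent.Lib.Helper4.O73C
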