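import Cfsg.Agent.Lib.Helper4.O73C.G1

set_option autoImplicit false
set_option maxRecDepth 1000000

namespace Cfsg.Agent.Lib.Helper4.O73C

open Cfsg.Agent.Lib.Helper6 Cfsg.Agent.Lib.Helper6.TC Cfsg.Agent.Lib.Helper6.TCD

/-! # The tables of the twelve words -/

theorem all_range_spec {n : ℕ} {f : ℕ → Bool} (h : (List.range n).all f = true) :
    ∀ p < n, f p = true := by
  intro p hp
  exact List.all_eq_true.mp h p (List.mem_range.mpr hp)

theorem tabchk1 : (List.range 364).all (fun p => Nat.beq (wapp O73a.px W1 p) (T1 p)) = true := by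
  decide +kernel

theorem good_W1 : GoodT φ (elt W1) T1 :=
  good_elt_of_table (by decide) (fun p hp => Nat.eq_of_beq_eq_true (all_range_spec tabchk1 p hp))

theorem tabchk2 : (List.range 364).all (fun p => Nat.beq (wapp O73a.px W2 p) (T2 p)) = true := by
  decide +kernel

theorem good_W2 : GoodT φ (elt W2) T2 :=
  good_elt_of_table (by decide) (fun p hp => Nat.eq_of_beq_eq_true (all_range_spec tabchk2 p hp))

theorem tabchk3 : (List.range 364).all (fun p => Nat.beq (wapp O73a.px W3 p) (T3 p)) = true := by
  decide +kernel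

theorem good_W3 : GoodT φ (elt W3) T3 :=
  good_elt_of_table (by decide) (fun p hp => Nat.eq_of_beq_eq_true (all_range_spec tabchk3 p hp))

theorem tabchk4 : (List.range 364).all (fun p => Nat.beq (wapp O73a.px W4 p) (T4 p)) = true := by
  decide +kernel

theorem good_W4 : GoodT φ (elt W4) T4 :=
  good_elt_of_table (by decide) (fun p hp => Nat.eq_of_beq_eq_true (all_range_spec tabchk4 p hp))

theorem tabchk5 : (List.range 364).all (fun p => Nat.beq (wapp O73a.px W5 p) (T5 p)) = true := by
  decide +kernel

theorem good_W5 : GoodT φ (elt W5) T5 :=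
  good_elt_of_table (by decide) (fun p hp => Nat.eq_of_beq_eq_true (all_range_spec tabchk5 p hp))

theorem tabchk6 : (List.range 364).all (fun p => Nat.beq (wapp O73a.px W6 p) (T6 p)) = true := by
  decide +kernel

theorem good_W6 : GoodT φ (elt W6) T6 :=
  good_elt_of_table (by decide) (fun p hp => Nat.eq_of_beq_eq_true (all_range_spec tabchk6 p hp))

theorem tabchk7 : (List.range 364).all (fun p => Nat.beq (wapp O73a.px W7 p) (T7 p)) = true := by
  decide +kernel

theorem good_W7 : GoodT φ (elt W7) T7 :=
  good_elt_of_table (by decide) (fun p hp => Nat.eq_of_beq_eq_true (all_range_spec tabchk7 p hp))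

theorem tabchk8 : (List.range 364).all (fun p => Nat.beq (wapp O73a.px W8 p) (T8 p)) = true := by
  decide +kernel

theorem good_W8 : GoodT φ (elt W8) T8 :=
  good_elt_of_table (by decide) (fun p hp => Nat.eq_of_beq_eq_true (all_range_spec tabchk8 p hp))

theorem tabchk9 : (List.range 364).all (fun p => Nat.beq (wapp O73a.px W9 p) (T9 p)) = true := by
  decide +kernel

theorem good_W9 : GoodT φ (elt W9) T9 :=
  good_elt_of_table (by decide) (fun p hp => Nat.eq_of_beq_eq_true (all_range_spec tabchk9 p hp))

theorem tabchkN1 : (List.range 364).all (fun p => Nat.beq (wapp O73a.px WN1 p) (TN1 p)) = true := by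
  decide +kernel

theorem good_WN1 : GoodT φ (elt WN1) TN1 :=
  good_elt_of_table (by decide) (fun p hp => Nat.eq_of_beq_eq_true (all_range_spec tabchkN1 p hp))

theorem tabchkN2 : (List.range 364).all (fun p => Nat.beq (wapp O73a.px WN2 p) (TN2 p)) = true := by
  decide +kernel

theorem good_WN2 : GoodT φ (elt WN2) TN2 :=
  good_elt_of_table (by decide) (fun p hp => Nat.eq_of_beq_eq_true (all_range_spec tabchkN2 p hp))

theorem tabchkN3 : (List.range 364).all (fun p => Nat.beq (wapp O73a.px WN3 p) (TN3 p)) = true := by
  decide +kernel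

theorem good_WN3 : GoodT φ (elt WN3) TN3 :=
  good_elt_of_table (by decide) (fun p hp => Nat.eq_of_beq_eq_true (all_range_spec tabchkN3 p hp))

/-- the polycyclic sequence -/
noncomputable def gs : List GG := [elt W1, elt W2, elt W3, elt W4, elt W5, elt W6, elt W7, elt W8, elt W9]

/-- its tables -/
noncomputable def Ts : List (ℕ → ℕ) := [T1, T2, T3, T4, T5, T6, T7, T8, T9]

theorem good_gs : List.Forall₂ (GoodT φ) gs Ts :=
  .cons good_W1 (.cons good_W2 (.cons good_W3 (.cons good_W4 (.cons good_W5 (.cons good_W6
    (.cons good_W7 (.cons good_W8 (.cons good_W9 .nil))))))))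

/-- the twelve elements -/
noncomputable def fE (f : ℕ) : GG := elt (fW f)

theorem good_fE : ∀ f < 12, GoodT φ (fE f) (fT f) := by
  intro f hf
  interval_cases f
  · exact good_W1
  · exact good_W2
  · exact good_W3
  · exact good_W4
  · exact good_W5
  · exact good_W6
  · exact good_W7
  · exact good_W8
  · exact good_W9
  · exact good_WN1
  · exact good_WN2
  · exact good_WN3

end Cfsg.Agent.Lib.Helper4.O73C
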