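import Cfsg.Agent.Lib.Helper4.O73C.K1

set_option autoImplicit false
set_option maxRecDepth 1000000

namespace Cfsg.Agent.Lib.Helper4.O73C

open Cfsg.Agent.Lib.Helper6 Cfsg.Agent.Lib.Helper6.TC Cfsg.Agent.Lib.Helper6.TCD

/-! # The relations of the polycyclic sequence -/

theorem good_tail1 : List.Forall₂ (GoodT φ) ([elt W1, elt W2, elt W3, elt W4, elt W5, elt W6, elt W7, elt W8, elt W9] : List GG) [T1, T2, T3, T4, T5, T6, T7, T8, T9] :=
  .cons good_W1 (.cons good_W2 (.cons good_W3 (.cons good_W4 (.cons good_W5 (.cons good_W6 (.cons good_W7 (.cons good_W8 (.cons good_W9 (.nil)))))))))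

theorem good_tail2 : List.Forall₂ (GoodT φ) ([elt W2, elt W3, elt W4, elt W5, elt W6, elt W7, elt W8, elt W9] : List GG) [T2, T3, T4, T5, T6, T7, T8, T9] :=
  .cons good_W2 (.cons good_W3 (.cons good_W4 (.cons good_W5 (.cons good_W6 (.cons good_W7 (.cons good_W8 (.cons good_W9 (.nil))))))))

theorem good_tail3 : List.Forall₂ (GoodT φ) ([elt W3, elt W4, elt W5, elt W6, elt W7, elt W8, elt W9] : List GG) [T3, T4, T5, T6, T7, T8, T9] :=
  .cons good_W3 (.cons good_W4 (.cons good_W5 (.cons good_W6 (.cons good_W7 (.cons good_W8 (.cons good_W9 (.nil)))))))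

theorem good_tail4 : List.Forall₂ (GoodT φ) ([elt W4, elt W5, elt W6, elt W7, elt W8, elt W9] : List GG) [T4, T5, T6, T7, T8, T9] :=
  .cons good_W4 (.cons good_W5 (.cons good_W6 (.cons good_W7 (.cons good_W8 (.cons good_W9 (.nil))))))

theorem good_tail5 : List.Forall₂ (GoodT φ) ([elt W5, elt W6, elt W7, elt W8, elt W9] : List GG) [T5, T6, T7, T8, T9] :=
  .cons good_W5 (.cons good_W6 (.cons good_W7 (.cons good_W8 (.cons good_W9 (.nil)))))

theorem good_tail6 : List.Forall₂ (GoodT φ) ([elt W6, elt W7, elt W8, elt W9] : List GG) [T6, T7, T8, T9] :=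
  .cons good_W6 (.cons good_W7 (.cons good_W8 (.cons good_W9 (.nil))))

theorem good_tail7 : List.Forall₂ (GoodT φ) ([elt W7, elt W8, elt W9] : List GG) [T7, T8, T9] :=
  .cons good_W7 (.cons good_W8 (.cons good_W9 (.nil)))

theorem good_tail8 : List.Forall₂ (GoodT φ) ([elt W8, elt W9] : List GG) [T8, T9] :=
  .cons good_W8 (.cons good_W9 (.nil))

theorem good_tail9 : List.Forall₂ (GoodT φ) ([elt W9] : List GG) [T9] :=
  .cons good_W9 (.nil)

theorem good_tail10 : List.Forall₂ (GoodT φ) ([] : List GG) [] :=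
  .nil

theorem pow3_1 : elt W1 ^ 3 = 1 := by
  have e : elt W1 ^ 3 = elt W1 * elt W1 * elt W1 := by rw [pow_succ, pow_two]
  rw [e]
  exact eq_of_good6 ((good_W1.mul good_W1).mul good_W1) goodT_one (by decide +kernel)

theorem pow3_2 : elt W2 ^ 3 = 1 := by
  have e : elt W2 ^ 3 = elt W2 * elt W2 * elt W2 := by rw [pow_succ, pow_two]
  rw [e]
  exact eq_of_good6 ((good_W2.mul good_W2).mul good_W2) goodT_one (by decide +kernel)

theorem pow3_3 : elt W3 ^ 3 = 1 := by
  have e : elt W3 ^ 3 = elt W3 * elt W3 * elt W3 := by rw [pow_succ, pow_two]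
  rw [e]
  exact eq_of_good6 ((good_W3.mul good_W3).mul good_W3) goodT_one (by decide +kernel)

theorem pow3_4 : elt W4 ^ 3 = 1 := by
  have e : elt W4 ^ 3 = elt W4 * elt W4 * elt W4 := by rw [pow_succ, pow_two]
  rw [e]
  exact eq_of_good6 ((good_W4.mul good_W4).mul good_W4) goodT_one (by decide +kernel)

theorem pow3_5 : elt W5 ^ 3 = 1 := by
  have e : elt W5 ^ 3 = elt W5 * elt W5 * elt W5 := by rw [pow_succ, pow_two]
  rw [e]
  exact eq_of_good6 ((good_W5.mul good_W5).mul good_W5) goodT_one (by decide +kernel)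

theorem pow3_6 : elt W6 ^ 3 = 1 := by
  have e : elt W6 ^ 3 = elt W6 * elt W6 * elt W6 := by rw [pow_succ, pow_two]
  rw [e]
  exact eq_of_good6 ((good_W6.mul good_W6).mul good_W6) goodT_one (by decide +kernel)

theorem pow3_7 : elt W7 ^ 3 = 1 := by
  have e : elt W7 ^ 3 = elt W7 * elt W7 * elt W7 := by rw [pow_succ, pow_two]
  rw [e]
  exact eq_of_good6 ((good_W7.mul good_W7).mul good_W7) goodT_one (by decide +kernel)

theorem pow3_8 : elt W8 ^ 3 = 1 := by
  have e : elt W8 ^ 3 = elt W8 * elt W8 * elt W8 := by rw [pow_succ, pow_two]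
  rw [e]
  exact eq_of_good6 ((good_W8.mul good_W8).mul good_W8) goodT_one (by decide +kernel)

theorem pow3_9 : elt W9 ^ 3 = 1 := by
  have e : elt W9 ^ 3 = elt W9 * elt W9 * elt W9 := by rw [pow_succ, pow_two]
  rw [e]
  exact eq_of_good6 ((good_W9.mul good_W9).mul good_W9) goodT_one (by decide +kernel)

theorem conj_1_2 : elt W1 * elt W2 * (elt W1)⁻¹ ∈ gsub ([elt W2, elt W3, elt W4, elt W5, elt W6, elt W7, elt W8, elt W9] : List GG) := by
  have e : elt W1 * elt W2 = nfProd 3 ([elt W2, elt W3, elt W4, elt W5, elt W6, elt W7, elt W8, elt W9] : List GG) 1 * elt W1 :=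
    eq_of_good6 (good_W1.mul good_W2) ((good_nfProd good_tail2 1).mul good_W1) (by decide +kernel)
  rw [e, mul_inv_cancel_right]
  exact nfProd_mem 3 _ _

theorem conj_1_3 : elt W1 * elt W3 * (elt W1)⁻¹ ∈ gsub ([elt W2, elt W3, elt W4, elt W5, elt W6, elt W7, elt W8, elt W9] : List GG) := by
  have e : elt W1 * elt W3 = nfProd 3 ([elt W2, elt W3, elt W4, elt W5, elt W6, elt W7, elt W8, elt W9] : List GG) 4656 * elt W1 :=
    eq_of_good6 (good_W1.mul good_W3) ((good_nfProd good_tail2 4656).mul good_W1) (by decide +kernel)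
  rw [e, mul_inv_cancel_right]
  exact nfProd_mem 3 _ _

theorem conj_1_4 : elt W1 * elt W4 * (elt W1)⁻¹ ∈ gsub ([elt W2, elt W3, elt W4, elt W5, elt W6, elt W7, elt W8, elt W9] : List GG) := by
  have e : elt W1 * elt W4 = nfProd 3 ([elt W2, elt W3, elt W4, elt W5, elt W6, elt W7, elt W8, elt W9] : List GG) 4626 * elt W1 :=
    eq_of_good6 (good_W1.mul good_W4) ((good_nfProd good_tail2 4626).mul good_W1) (by decide +kernel)
  rw [e, mul_inv_cancel_right]
  exact nfProd_mem 3 _ _

theorem conj_1_5 : elt W1 * elt W5 * (elt W1)⁻¹ ∈ gsub ([elt W2, elt W3, elt W4, elt W5, elt W6, elt W7, elt W8, elt W9] : List GG) := by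
  have e : elt W1 * elt W5 = nfProd 3 ([elt W2, elt W3, elt W4, elt W5, elt W6, elt W7, elt W8, elt W9] : List GG) 2862 * elt W1 :=
    eq_of_good6 (good_W1.mul good_W5) ((good_nfProd good_tail2 2862).mul good_W1) (by decide +kernel)
  rw [e, mul_inv_cancel_right]
  exact nfProd_mem 3 _ _

theorem conj_1_6 : elt W1 * elt W6 * (elt W1)⁻¹ ∈ gsub ([elt W2, elt W3, elt W4, elt W5, elt W6, elt W7, elt W8, elt W9] : List GG) := by
  have e : elt W1 * elt W6 = nfProd 3 ([elt W2, elt W3, elt W4, elt W5, elt W6, elt W7, elt W8, elt W9] : List GG) 81 * elt W1 :=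
    eq_of_good6 (good_W1.mul good_W6) ((good_nfProd good_tail2 81).mul good_W1) (by decide +kernel)
  rw [e, mul_inv_cancel_right]
  exact nfProd_mem 3 _ _

theorem conj_1_7 : elt W1 * elt W7 * (elt W1)⁻¹ ∈ gsub ([elt W2, elt W3, elt W4, elt W5, elt W6, elt W7, elt W8, elt W9] : List GG) := by
  have e : elt W1 * elt W7 = nfProd 3 ([elt W2, elt W3, elt W4, elt W5, elt W6, elt W7, elt W8, elt W9] : List GG) 1701 * elt W1 :=
    eq_of_good6 (good_W1.mul good_W7) ((good_nfProd good_tail2 1701).mul good_W1) (by decide +kernel)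
  rw [e, mul_inv_cancel_right]
  exact nfProd_mem 3 _ _

theorem conj_1_8 : elt W1 * elt W8 * (elt W1)⁻¹ ∈ gsub ([elt W2, elt W3, elt W4, elt W5, elt W6, elt W7, elt W8, elt W9] : List GG) := by
  have e : elt W1 * elt W8 = nfProd 3 ([elt W2, elt W3, elt W4, elt W5, elt W6, elt W7, elt W8, elt W9] : List GG) 729 * elt W1 :=
    eq_of_good6 (good_W1.mul good_W8) ((good_nfProd good_tail2 729).mul good_W1) (by decide +kernel)
  rw [e, mul_inv_cancel_right]
  exact nfProd_mem 3 _ _

theorem conj_1_9 : elt W1 * elt W9 * (elt W1)⁻¹ ∈ gsub ([elt W2, elt W3, elt W4, elt W5, elt W6, elt W7, elt W8, elt W9] : List GG) := by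
  have e : elt W1 * elt W9 = nfProd 3 ([elt W2, elt W3, elt W4, elt W5, elt W6, elt W7, elt W8, elt W9] : List GG) 2187 * elt W1 :=
    eq_of_good6 (good_W1.mul good_W9) ((good_nfProd good_tail2 2187).mul good_W1) (by decide +kernel)
  rw [e, mul_inv_cancel_right]
  exact nfProd_mem 3 _ _

theorem conj_2_3 : elt W2 * elt W3 * (elt W2)⁻¹ ∈ gsub ([elt W3, elt W4, elt W5, elt W6, elt W7, elt W8, elt W9] : List GG) := by
  have e : elt W2 * elt W3 = nfProd 3 ([elt W3, elt W4, elt W5, elt W6, elt W7, elt W8, elt W9] : List GG) 10 * elt W2 :=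
    eq_of_good6 (good_W2.mul good_W3) ((good_nfProd good_tail3 10).mul good_W2) (by decide +kernel)
  rw [e, mul_inv_cancel_right]
  exact nfProd_mem 3 _ _

theorem conj_2_4 : elt W2 * elt W4 * (elt W2)⁻¹ ∈ gsub ([elt W3, elt W4, elt W5, elt W6, elt W7, elt W8, elt W9] : List GG) := by
  have e : elt W2 * elt W4 = nfProd 3 ([elt W3, elt W4, elt W5, elt W6, elt W7, elt W8, elt W9] : List GG) 57 * elt W2 :=
    eq_of_good6 (good_W2.mul good_W4) ((good_nfProd good_tail3 57).mul good_W2) (by decide +kernel)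
  rw [e, mul_inv_cancel_right]
  exact nfProd_mem 3 _ _

theorem conj_2_5 : elt W2 * elt W5 * (elt W2)⁻¹ ∈ gsub ([elt W3, elt W4, elt W5, elt W6, elt W7, elt W8, elt W9] : List GG) := by
  have e : elt W2 * elt W5 = nfProd 3 ([elt W3, elt W4, elt W5, elt W6, elt W7, elt W8, elt W9] : List GG) 171 * elt W2 :=
    eq_of_good6 (good_W2.mul good_W5) ((good_nfProd good_tail3 171).mul good_W2) (by decide +kernel)
  rw [e, mul_inv_cancel_right]
  exact nfProd_mem 3 _ _

theorem conj_2_6 : elt W2 * elt W6 * (elt W2)⁻¹ ∈ gsub ([elt W3, elt W4, elt W5, elt W6, elt W7, elt W8, elt W9] : List GG) := by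
  have e : elt W2 * elt W6 = nfProd 3 ([elt W3, elt W4, elt W5, elt W6, elt W7, elt W8, elt W9] : List GG) 513 * elt W2 :=
    eq_of_good6 (good_W2.mul good_W6) ((good_nfProd good_tail3 513).mul good_W2) (by decide +kernel)
  rw [e, mul_inv_cancel_right]
  exact nfProd_mem 3 _ _

theorem conj_2_7 : elt W2 * elt W7 * (elt W2)⁻¹ ∈ gsub ([elt W3, elt W4, elt W5, elt W6, elt W7, elt W8, elt W9] : List GG) := by
  have e : elt W2 * elt W7 = nfProd 3 ([elt W3, elt W4, elt W5, elt W6, elt W7, elt W8, elt W9] : List GG) 81 * elt W2 :=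
    eq_of_good6 (good_W2.mul good_W7) ((good_nfProd good_tail3 81).mul good_W2) (by decide +kernel)
  rw [e, mul_inv_cancel_right]
  exact nfProd_mem 3 _ _

theorem conj_2_8 : elt W2 * elt W8 * (elt W2)⁻¹ ∈ gsub ([elt W3, elt W4, elt W5, elt W6, elt W7, elt W8, elt W9] : List GG) := by
  have e : elt W2 * elt W8 = nfProd 3 ([elt W3, elt W4, elt W5, elt W6, elt W7, elt W8, elt W9] : List GG) 243 * elt W2 :=
    eq_of_good6 (good_W2.mul good_W8) ((good_nfProd good_tail3 243).mul good_W2) (by decide +kernel)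
  rw [e, mul_inv_cancel_right]
  exact nfProd_mem 3 _ _

theorem conj_2_9 : elt W2 * elt W9 * (elt W2)⁻¹ ∈ gsub ([elt W3, elt W4, elt W5, elt W6, elt W7, elt W8, elt W9] : List GG) := by
  have e : elt W2 * elt W9 = nfProd 3 ([elt W3, elt W4, elt W5, elt W6, elt W7, elt W8, elt W9] : List GG) 729 * elt W2 :=
    eq_of_good6 (good_W2.mul good_W9) ((good_nfProd good_tail3 729).mul good_W2) (by decide +kernel)
  rw [e, mul_inv_cancel_right]
  exact nfProd_mem 3 _ _

theorem conj_3_4 : elt W3 * elt W4 * (elt W3)⁻¹ ∈ gsub ([elt W4, elt W5, elt W6, elt W7, elt W8, elt W9] : List GG) := by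
  have e : elt W3 * elt W4 = nfProd 3 ([elt W4, elt W5, elt W6, elt W7, elt W8, elt W9] : List GG) 1 * elt W3 :=
    eq_of_good6 (good_W3.mul good_W4) ((good_nfProd good_tail4 1).mul good_W3) (by decide +kernel)
  rw [e, mul_inv_cancel_right]
  exact nfProd_mem 3 _ _

theorem conj_3_5 : elt W3 * elt W5 * (elt W3)⁻¹ ∈ gsub ([elt W4, elt W5, elt W6, elt W7, elt W8, elt W9] : List GG) := by
  have e : elt W3 * elt W5 = nfProd 3 ([elt W4, elt W5, elt W6, elt W7, elt W8, elt W9] : List GG) 3 * elt W3 :=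
    eq_of_good6 (good_W3.mul good_W5) ((good_nfProd good_tail4 3).mul good_W3) (by decide +kernel)
  rw [e, mul_inv_cancel_right]
  exact nfProd_mem 3 _ _

theorem conj_3_6 : elt W3 * elt W6 * (elt W3)⁻¹ ∈ gsub ([elt W4, elt W5, elt W6, elt W7, elt W8, elt W9] : List GG) := by
  have e : elt W3 * elt W6 = nfProd 3 ([elt W4, elt W5, elt W6, elt W7, elt W8, elt W9] : List GG) 495 * elt W3 :=
    eq_of_good6 (good_W3.mul good_W6) ((good_nfProd good_tail4 495).mul good_W3) (by decide +kernel)
  rw [e, mul_inv_cancel_right]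
  exact nfProd_mem 3 _ _

theorem conj_3_7 : elt W3 * elt W7 * (elt W3)⁻¹ ∈ gsub ([elt W4, elt W5, elt W6, elt W7, elt W8, elt W9] : List GG) := by
  have e : elt W3 * elt W7 = nfProd 3 ([elt W4, elt W5, elt W6, elt W7, elt W8, elt W9] : List GG) 27 * elt W3 :=
    eq_of_good6 (good_W3.mul good_W7) ((good_nfProd good_tail4 27).mul good_W3) (by decide +kernel)
  rw [e, mul_inv_cancel_right]
  exact nfProd_mem 3 _ _

theorem conj_3_8 : elt W3 * elt W8 * (elt W3)⁻¹ ∈ gsub ([elt W4, elt W5, elt W6, elt W7, elt W8, elt W9] : List GG) := by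
  have e : elt W3 * elt W8 = nfProd 3 ([elt W4, elt W5, elt W6, elt W7, elt W8, elt W9] : List GG) 324 * elt W3 :=
    eq_of_good6 (good_W3.mul good_W8) ((good_nfProd good_tail4 324).mul good_W3) (by decide +kernel)
  rw [e, mul_inv_cancel_right]
  exact nfProd_mem 3 _ _

theorem conj_3_9 : elt W3 * elt W9 * (elt W3)⁻¹ ∈ gsub ([elt W4, elt W5, elt W6, elt W7, elt W8, elt W9] : List GG) := by
  have e : elt W3 * elt W9 = nfProd 3 ([elt W4, elt W5, elt W6, elt W7, elt W8, elt W9] : List GG) 243 * elt W3 :=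
    eq_of_good6 (good_W3.mul good_W9) ((good_nfProd good_tail4 243).mul good_W3) (by decide +kernel)
  rw [e, mul_inv_cancel_right]
  exact nfProd_mem 3 _ _

theorem conj_4_5 : elt W4 * elt W5 * (elt W4)⁻¹ ∈ gsub ([elt W5, elt W6, elt W7, elt W8, elt W9] : List GG) := by
  have e : elt W4 * elt W5 = nfProd 3 ([elt W5, elt W6, elt W7, elt W8, elt W9] : List GG) 1 * elt W4 :=
    eq_of_good6 (good_W4.mul good_W5) ((good_nfProd good_tail5 1).mul good_W4) (by decide +kernel)
  rw [e, mul_inv_cancel_right]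
  exact nfProd_mem 3 _ _

theorem conj_4_6 : elt W4 * elt W6 * (elt W4)⁻¹ ∈ gsub ([elt W5, elt W6, elt W7, elt W8, elt W9] : List GG) := by
  have e : elt W4 * elt W6 = nfProd 3 ([elt W5, elt W6, elt W7, elt W8, elt W9] : List GG) 165 * elt W4 :=
    eq_of_good6 (good_W4.mul good_W6) ((good_nfProd good_tail5 165).mul good_W4) (by decide +kernel)
  rw [e, mul_inv_cancel_right]
  exact nfProd_mem 3 _ _

theorem conj_4_7 : elt W4 * elt W7 * (elt W4)⁻¹ ∈ gsub ([elt W5, elt W6, elt W7, elt W8, elt W9] : List GG) := by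
  have e : elt W4 * elt W7 = nfProd 3 ([elt W5, elt W6, elt W7, elt W8, elt W9] : List GG) 90 * elt W4 :=
    eq_of_good6 (good_W4.mul good_W7) ((good_nfProd good_tail5 90).mul good_W4) (by decide +kernel)
  rw [e, mul_inv_cancel_right]
  exact nfProd_mem 3 _ _

theorem conj_4_8 : elt W4 * elt W8 * (elt W4)⁻¹ ∈ gsub ([elt W5, elt W6, elt W7, elt W8, elt W9] : List GG) := by
  have e : elt W4 * elt W8 = nfProd 3 ([elt W5, elt W6, elt W7, elt W8, elt W9] : List GG) 27 * elt W4 :=
    eq_of_good6 (good_W4.mul good_W8) ((good_nfProd good_tail5 27).mul good_W4) (by decide +kernel)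
  rw [e, mul_inv_cancel_right]
  exact nfProd_mem 3 _ _

theorem conj_4_9 : elt W4 * elt W9 * (elt W4)⁻¹ ∈ gsub ([elt W5, elt W6, elt W7, elt W8, elt W9] : List GG) := by
  have e : elt W4 * elt W9 = nfProd 3 ([elt W5, elt W6, elt W7, elt W8, elt W9] : List GG) 81 * elt W4 :=
    eq_of_good6 (good_W4.mul good_W9) ((good_nfProd good_tail5 81).mul good_W4) (by decide +kernel)
  rw [e, mul_inv_cancel_right]
  exact nfProd_mem 3 _ _

theorem conj_5_6 : elt W5 * elt W6 * (elt W5)⁻¹ ∈ gsub ([elt W6, elt W7, elt W8, elt W9] : List GG) := by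
  have e : elt W5 * elt W6 = nfProd 3 ([elt W6, elt W7, elt W8, elt W9] : List GG) 28 * elt W5 :=
    eq_of_good6 (good_W5.mul good_W6) ((good_nfProd good_tail6 28).mul good_W5) (by decide +kernel)
  rw [e, mul_inv_cancel_right]
  exact nfProd_mem 3 _ _

theorem conj_5_7 : elt W5 * elt W7 * (elt W5)⁻¹ ∈ gsub ([elt W6, elt W7, elt W8, elt W9] : List GG) := by
  have e : elt W5 * elt W7 = nfProd 3 ([elt W6, elt W7, elt W8, elt W9] : List GG) 3 * elt W5 :=
    eq_of_good6 (good_W5.mul good_W7) ((good_nfProd good_tail6 3).mul good_W5) (by decide +kernel)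
  rw [e, mul_inv_cancel_right]
  exact nfProd_mem 3 _ _

theorem conj_5_8 : elt W5 * elt W8 * (elt W5)⁻¹ ∈ gsub ([elt W6, elt W7, elt W8, elt W9] : List GG) := by
  have e : elt W5 * elt W8 = nfProd 3 ([elt W6, elt W7, elt W8, elt W9] : List GG) 9 * elt W5 :=
    eq_of_good6 (good_W5.mul good_W8) ((good_nfProd good_tail6 9).mul good_W5) (by decide +kernel)
  rw [e, mul_inv_cancel_right]
  exact nfProd_mem 3 _ _

theorem conj_5_9 : elt W5 * elt W9 * (elt W5)⁻¹ ∈ gsub ([elt W6, elt W7, elt W8, elt W9] : List GG) := by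
  have e : elt W5 * elt W9 = nfProd 3 ([elt W6, elt W7, elt W8, elt W9] : List GG) 27 * elt W5 :=
    eq_of_good6 (good_W5.mul good_W9) ((good_nfProd good_tail6 27).mul good_W5) (by decide +kernel)
  rw [e, mul_inv_cancel_right]
  exact nfProd_mem 3 _ _

theorem conj_6_7 : elt W6 * elt W7 * (elt W6)⁻¹ ∈ gsub ([elt W7, elt W8, elt W9] : List GG) := by
  have e : elt W6 * elt W7 = nfProd 3 ([elt W7, elt W8, elt W9] : List GG) 1 * elt W6 :=
    eq_of_good6 (good_W6.mul good_W7) ((good_nfProd good_tail7 1).mul good_W6) (by decide +kernel)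
  rw [e, mul_inv_cancel_right]
  exact nfProd_mem 3 _ _

theorem conj_6_8 : elt W6 * elt W8 * (elt W6)⁻¹ ∈ gsub ([elt W7, elt W8, elt W9] : List GG) := by
  have e : elt W6 * elt W8 = nfProd 3 ([elt W7, elt W8, elt W9] : List GG) 3 * elt W6 :=
    eq_of_good6 (good_W6.mul good_W8) ((good_nfProd good_tail7 3).mul good_W6) (by decide +kernel)
  rw [e, mul_inv_cancel_right]
  exact nfProd_mem 3 _ _

theorem conj_6_9 : elt W6 * elt W9 * (elt W6)⁻¹ ∈ gsub ([elt W7, elt W8, elt W9] : List GG) := by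
  have e : elt W6 * elt W9 = nfProd 3 ([elt W7, elt W8, elt W9] : List GG) 9 * elt W6 :=
    eq_of_good6 (good_W6.mul good_W9) ((good_nfProd good_tail7 9).mul good_W6) (by decide +kernel)
  rw [e, mul_inv_cancel_right]
  exact nfProd_mem 3 _ _

theorem conj_7_8 : elt W7 * elt W8 * (elt W7)⁻¹ ∈ gsub ([elt W8, elt W9] : List GG) := by
  have e : elt W7 * elt W8 = nfProd 3 ([elt W8, elt W9] : List GG) 1 * elt W7 :=
    eq_of_good6 (good_W7.mul good_W8) ((good_nfProd good_tail8 1).mul good_W7) (by decide +kernel)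
  rw [e, mul_inv_cancel_right]
  exact nfProd_mem 3 _ _

theorem conj_7_9 : elt W7 * elt W9 * (elt W7)⁻¹ ∈ gsub ([elt W8, elt W9] : List GG) := by
  have e : elt W7 * elt W9 = nfProd 3 ([elt W8, elt W9] : List GG) 3 * elt W7 :=
    eq_of_good6 (good_W7.mul good_W9) ((good_nfProd good_tail8 3).mul good_W7) (by decide +kernel)
  rw [e, mul_inv_cancel_right]
  exact nfProd_mem 3 _ _

theorem conj_8_9 : elt W8 * elt W9 * (elt W8)⁻¹ ∈ gsub ([elt W9] : List GG) := by
  have e : elt W8 * elt W9 = nfProd 3 ([elt W9] : List GG) 1 * elt W8 :=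
    eq_of_good6 (good_W8.mul good_W9) ((good_nfProd good_tail9 1).mul good_W8) (by decide +kernel)
  rw [e, mul_inv_cancel_right]
  exact nfProd_mem 3 _ _

theorem pc10 : PCok 3 ([] : List GG) := trivial

theorem pc9 : PCok 3 ([elt W9] : List GG) := by
  refine ⟨pc10, ?_, ?_⟩
  · rw [pow3_9]
    exact Subgroup.one_mem _
  · intro h hh
    exact absurd hh List.not_mem_nil

theorem pc8 : PCok 3 ([elt W8, elt W9] : List GG) := by
  refine ⟨pc9, ?_, ?_⟩
  · rw [pow3_8]
    exact Subgroup.one_mem _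
  · intro h hh
    simp only [List.mem_cons, List.mem_nil_iff, or_false] at hh
    rcases hh with rfl
    · exact conj_8_9

theorem pc7 : PCok 3 ([elt W7, elt W8, elt W9] : List GG) := by
  refine ⟨pc8, ?_, ?_⟩
  · rw [pow3_7]
    exact Subgroup.one_mem _
  · intro h hh
    simp only [List.mem_cons, List.mem_nil_iff, or_false] at hh
    rcases hh with rfl | rfl
    · exact conj_7_8
    · exact conj_7_9

theorem pc6 : PCok 3 ([elt W6, elt W7, elt W8, elt W9] : List GG) := by
  refine ⟨pc7, ?_, ?_⟩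
  · rw [pow3_6]
    exact Subgroup.one_mem _
  · intro h hh
    simp only [List.mem_cons, List.mem_nil_iff, or_false] at hh
    rcases hh with rfl | rfl | rfl
    · exact conj_6_7
    · exact conj_6_8
    · exact conj_6_9

theorem pc5 : PCok 3 ([elt W5, elt W6, elt W7, elt W8, elt W9] : List GG) := by
  refine ⟨pc6, ?_, ?_⟩
  · rw [pow3_5]
    exact Subgroup.one_mem _
  · intro h hh
    simp only [List.mem_cons, List.mem_nil_iff, or_false] at hh
    rcases hh with rfl | rfl | rfl | rfl
    · exact conj_5_6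
    · exact conj_5_7
    · exact conj_5_8
    · exact conj_5_9

theorem pc4 : PCok 3 ([elt W4, elt W5, elt W6, elt W7, elt W8, elt W9] : List GG) := by
  refine ⟨pc5, ?_, ?_⟩
  · rw [pow3_4]
    exact Subgroup.one_mem _
  · intro h hh
    simp only [List.mem_cons, List.mem_nil_iff, or_false] at hh
    rcases hh with rfl | rfl | rfl | rfl | rfl
    · exact conj_4_5
    · exact conj_4_6
    · exact conj_4_7
    · exact conj_4_8
    · exact conj_4_9

theorem pc3 : PCok 3 ([elt W3, elt W4, elt W5, elt W6, elt W7, elt W8, elt W9] : List GG) := by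
  refine ⟨pc4, ?_, ?_⟩
  · rw [pow3_3]
    exact Subgroup.one_mem _
  · intro h hh
    simp only [List.mem_cons, List.mem_nil_iff, or_false] at hh
    rcases hh with rfl | rfl | rfl | rfl | rfl | rfl
    · exact conj_3_4
    · exact conj_3_5
    · exact conj_3_6
    · exact conj_3_7
    · exact conj_3_8
    · exact conj_3_9

theorem pc2 : PCok 3 ([elt W2, elt W3, elt W4, elt W5, elt W6, elt W7, elt W8, elt W9] : List GG) := by
  refine ⟨pc3, ?_, ?_⟩
  · rw [pow3_2]
    exact Subgroup.one_mem _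
  · intro h hh
    simp only [List.mem_cons, List.mem_nil_iff, or_false] at hh
    rcases hh with rfl | rfl | rfl | rfl | rfl | rfl | rfl
    · exact conj_2_3
    · exact conj_2_4
    · exact conj_2_5
    · exact conj_2_6
    · exact conj_2_7
    · exact conj_2_8
    · exact conj_2_9

theorem pc1 : PCok 3 ([elt W1, elt W2, elt W3, elt W4, elt W5, elt W6, elt W7, elt W8, elt W9] : List GG) := by
  refine ⟨pc2, ?_, ?_⟩
  · rw [pow3_1]
    exact Subgroup.one_mem _
  · intro h hh
    simp only [List.mem_cons, List.mem_nil_iff, or_false] at hh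
    rcases hh with rfl | rfl | rfl | rfl | rfl | rfl | rfl | rfl
    · exact conj_1_2
    · exact conj_1_3
    · exact conj_1_4
    · exact conj_1_5
    · exact conj_1_6
    · exact conj_1_7
    · exact conj_1_8
    · exact conj_1_9

theorem ps10 : PCstrict ([] : List GG) := trivial

/-- a set of points -/
noncomputable def inB9 (p : Nat) : Bool := Nat.beq (Nat.land (Nat.shiftRight 0x2 p) 1) 1

theorem blk9 : ([] : List (ℕ → ℕ)).all (fun T => (List.range 364).all (fun p => inB9 (T p) == inB9 p)) = true := by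
  decide +kernel

theorem ps9 : PCstrict ([elt W9] : List GG) := by
  refine ⟨ps10, ?_⟩
  refine notMem_gsub_of_block inB9 good_tail10 ?_ good_W9 ⟨1, by decide⟩ (by decide +kernel)
  intro T hT p hp
  exact eq_of_beq (all_range_spec (List.all_eq_true.mp blk9 T hT) p hp)

/-- a set of points -/
noncomputable def inB8 (p : Nat) : Bool := Nat.beq (Nat.land (Nat.shiftRight 0x800000000000000000000000000000000000000000000000000000000000 p) 1) 1

theorem blk8 : ([T9] : List (ℕ → ℕ)).all (fun T => (List.range 364).all (fun p => inB8 (T p) == inB8 p)) = true := by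
  decide +kernel

theorem ps8 : PCstrict ([elt W8, elt W9] : List GG) := by
  refine ⟨ps9, ?_⟩
  refine notMem_gsub_of_block inB8 good_tail9 ?_ good_W8 ⟨239, by decide⟩ (by decide +kernel)
  intro T hT p hp
  exact eq_of_beq (all_range_spec (List.all_eq_true.mp blk8 T hT) p hp)

/-- a set of points -/
noncomputable def inB7 (p : Nat) : Bool := Nat.beq (Nat.land (Nat.shiftRight 0x1000000000001000000000000000000000000000000000000000000000002000000000000000000000000000000 p) 1) 1

theorem blk7 : ([T8, T9] : List (ℕ → ℕ)).all (fun T => (List.range 364).all (fun p => inB7 (T p) == inB7 p)) = true := by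
  decide +kernel

theorem ps7 : PCstrict ([elt W7, elt W8, elt W9] : List GG) := by
  refine ⟨ps8, ?_⟩
  refine notMem_gsub_of_block inB7 good_tail8 ?_ good_W7 ⟨121, by decide⟩ (by decide +kernel)
  intro T hT p hp
  exact eq_of_beq (all_range_spec (List.all_eq_true.mp blk7 T hT) p hp)

/-- a set of points -/
noncomputable def inB6 (p : Nat) : Bool := Nat.beq (Nat.land (Nat.shiftRight 0x2000000000240000082080000000000100000000000000000000000000200000000000000000002 p) 1) 1

theorem blk6 : ([T7, T8, T9] : List (ℕ → ℕ)).all (fun T => (List.range 364).all (fun p => inB6 (T p) == inB6 p)) = true := by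
  decide +kernel

theorem ps6 : PCstrict ([elt W6, elt W7, elt W8, elt W9] : List GG) := by
  refine ⟨ps7, ?_⟩
  refine notMem_gsub_of_block inB6 good_tail7 ?_ good_W6 ⟨1, by decide⟩ (by decide +kernel)
  intro T hT p hp
  exact eq_of_beq (all_range_spec (List.all_eq_true.mp blk6 T hT) p hp)

/-- a set of points -/
noncomputable def inB5 (p : Nat) : Bool := Nat.beq (Nat.land (Nat.shiftRight 0x1000800020001000000200001000000200000000000400000000000000002000000000000000000000000000000 p) 1) 1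

theorem blk5 : ([T6, T7, T8, T9] : List (ℕ → ℕ)).all (fun T => (List.range 364).all (fun p => inB5 (T p) == inB5 p)) = true := by
  decide +kernel

theorem ps5 : PCstrict ([elt W5, elt W6, elt W7, elt W8, elt W9] : List GG) := by
  refine ⟨ps6, ?_⟩
  refine notMem_gsub_of_block inB5 good_tail6 ?_ good_W5 ⟨121, by decide⟩ (by decide +kernel)
  intro T hT p hp
  exact eq_of_beq (all_range_spec (List.all_eq_true.mp blk5 T hT) p hp)

/-- a set of points -/
noncomputable def inB4 (p : Nat) : Bool := Nat.beq (Nat.land (Nat.shiftRight 0x10000000000000000000000000000000000000000000000000000000 p) 1) 1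

theorem blk4 : ([T5, T6, T7, T8, T9] : List (ℕ → ℕ)).all (fun T => (List.range 364).all (fun p => inB4 (T p) == inB4 p)) = true := by
  decide +kernel

theorem ps4 : PCstrict ([elt W4, elt W5, elt W6, elt W7, elt W8, elt W9] : List GG) := by
  refine ⟨ps5, ?_⟩
  refine notMem_gsub_of_block inB4 good_tail5 ?_ good_W4 ⟨220, by decide⟩ (by decide +kernel)
  intro T hT p hp
  exact eq_of_beq (all_range_spec (List.all_eq_true.mp blk4 T hT) p hp)

/-- a set of points -/
noncomputable def inB3 (p : Nat) : Bool := Nat.beq (Nat.land (Nat.shiftRight 0x80000008000000000000000000010000000000000000000000000000000000000000000000000000000 p) 1) 1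

theorem blk3 : ([T4, T5, T6, T7, T8, T9] : List (ℕ → ℕ)).all (fun T => (List.range 364).all (fun p => inB3 (T p) == inB3 p)) = true := by
  decide +kernel

theorem ps3 : PCstrict ([elt W3, elt W4, elt W5, elt W6, elt W7, elt W8, elt W9] : List GG) := by
  refine ⟨ps4, ?_⟩
  refine notMem_gsub_of_block inB3 good_tail4 ?_ good_W3 ⟨220, by decide⟩ (by decide +kernel)
  intro T hT p hp
  exact eq_of_beq (all_range_spec (List.all_eq_true.mp blk3 T hT) p hp)

/-- a set of points -/
noncomputable def inB2 (p : Nat) : Bool := Nat.beq (Nat.land (Nat.shiftRight 0x80004000080880010800000200800000000000000000000000000000000000000000000000000000000000 p) 1) 1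

theorem blk2 : ([T3, T4, T5, T6, T7, T8, T9] : List (ℕ → ℕ)).all (fun T => (List.range 364).all (fun p => inB2 (T p) == inB2 p)) = true := by
  decide +kernel

theorem ps2 : PCstrict ([elt W2, elt W3, elt W4, elt W5, elt W6, elt W7, elt W8, elt W9] : List GG) := by
  refine ⟨ps3, ?_⟩
  refine notMem_gsub_of_block inB2 good_tail3 ?_ good_W2 ⟨239, by decide⟩ (by decide +kernel)
  intro T hT p hp
  exact eq_of_beq (all_range_spec (List.all_eq_true.mp blk2 T hT) p hp)

/-- a set of points -/
noncomputable def inB1 (p : Nat) : Bool := Nat.beq (Nat.land (Nat.shiftRight 0x10000000000000000000000000 p) 1) 1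

theorem blk1 : ([T2, T3, T4, T5, T6, T7, T8, T9] : List (ℕ → ℕ)).all (fun T => (List.range 364).all (fun p => inB1 (T p) == inB1 p)) = true := by
  decide +kernel

theorem ps1 : PCstrict ([elt W1, elt W2, elt W3, elt W4, elt W5, elt W6, elt W7, elt W8, elt W9] : List GG) := by
  refine ⟨ps2, ?_⟩
  refine notMem_gsub_of_block inB1 good_tail2 ?_ good_W1 ⟨100, by decide⟩ (by decide +kernel)
  intro T hT p hp
  exact eq_of_beq (all_range_spec (List.all_eq_true.mp blk1 T hT) p hp)

theorem pc_gs : PCok 3 gs := pc1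

theorem ps_gs : PCstrict gs := ps1

/-- the Sylow subgroup -/
noncomputable def PP : Subgroup GG := gsub gs

theorem card_PP : Nat.card PP = 19683 := by
  have h := card_gsub (p := 3) Nat.prime_three gs pc_gs ps_gs
  show Nat.card (gsub gs) = 19683
  rw [h]
  rfl

/-- the normal forms -/
noncomputable def nfE (e : ℕ) : GG := nfProd 3 gs e

theorem good_nfE (e : ℕ) : GoodT φ (nfE e) (nfA1 e) := good_nfProd good_gs e

theorem exists_nfE {x : GG} (hx : x ∈ PP) : ∃ e < 19683, x = nfE e :=
  exists_nf (p := 3) (by norm_num) gs pc_gs x hx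

end Cfsg.Agent.Lib.Helper4.O73C
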