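import Cfsg.Agent.Lib.Helper4.O73C.C1

set_option autoImplicit false
set_option maxRecDepth 1000000

namespace Cfsg.Agent.Lib.Helper4.O73C

/-! # Kernel checks of the conjugation certificate -/

theorem chkR4000 : chkRange 4000 1000 = true := by decide +kernel

theorem chkR5000 : chkRange 5000 1000 = true := by decide +kernel

theorem chkR6000 : chkRange 6000 1000 = true := by decide +kernel

theorem chkR7000 : chkRange 7000 1000 = true := by decide +kernel

end Cfsg.Agent.Lib.Helper4.O73C
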