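import Cfsg.Agent.Lib.Helper4.O73C.C1

set_option autoImplicit false
set_option maxRecDepth 1000000

namespace Cfsg.Agent.Lib.Helper4.O73C

/-! # Kernel checks of the conjugation certificate -/

theorem chkR12000 : chkRange 12000 1000 = true := by decide +kernel

theorem chkR13000 : chkRange 13000 1000 = true := by decide +kernel

theorem chkR14000 : chkRange 14000 1000 = true := by decide +kernel

theorem chkR15000 : chkRange 15000 1000 = true := by decide +kernel

end Cfsg.Agent.Lib.Helper4.O73C
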