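import Cfsg.Agent.Lib.Helper4.O73C.C1

set_option autoImplicit false
set_option maxRecDepth 1000000

namespace Cfsg.Agent.Lib.Helper4.O73C

/-! # Kernel checks of the conjugation certificate -/

theorem chkR16000 : chkRange 16000 1000 = true := by decide +kernel

theorem chkR17000 : chkRange 17000 1000 = true := by decide +kernel

theorem chkR18000 : chkRange 18000 1000 = true := by decide +kernel

theorem chkR19000 : chkRange 19000 683 = true := by decide +kernel

end Cfsg.Agent.Lib.Helper4.O73C
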