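import Cfsg.Agent.Lib.Helper4.O73C.K3a
import Cfsg.Agent.Lib.Helper4.O73C.K3b
import Cfsg.Agent.Lib.Helper4.O73C.K3c
import Cfsg.Agent.Lib.Helper4.O73C.K3d
import Cfsg.Agent.Lib.Helper4.O73C.K3e

set_option autoImplicit false

namespace Cfsg.Agent.Lib.Helper4.O73C

/-! # The conjugation certificate is valid -/

theorem chkRange_spec {a n : ℕ} (h : chkRange a n = true) : ∀ e, a ≤ e → e < a + n → chk e = true := by
  intro e h1 h2
  have := List.all_eq_true.mp h (e - a) (List.mem_range.mpr (by omega))
  have e' : e - a + a = e := by omega
  rw [e'] at this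
  exact this

theorem chk_all : ∀ e < 19683, chk e = true := by
  intro e he
  by_cases h0 : e < 1000
  · exact chkRange_spec chkR0 e (by omega) (by omega)
  by_cases h1000 : e < 2000
  · exact chkRange_spec chkR1000 e (by omega) (by omega)
  by_cases h2000 : e < 3000
  · exact chkRange_spec chkR2000 e (by omega) (by omega)
  by_cases h3000 : e < 4000
  · exact chkRange_spec chkR3000 e (by omega) (by omega)
  by_cases h4000 : e < 5000
  · exact chkRange_spec chkR4000 e (by omega) (by omega)
  by_cases h5000 : e < 6000
  · exact chkRange_spec chkR5000 e (by omega) (by omega)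
  by_cases h6000 : e < 7000
  · exact chkRange_spec chkR6000 e (by omega) (by omega)
  by_cases h7000 : e < 8000
  · exact chkRange_spec chkR7000 e (by omega) (by omega)
  by_cases h8000 : e < 9000
  · exact chkRange_spec chkR8000 e (by omega) (by omega)
  by_cases h9000 : e < 10000
  · exact chkRange_spec chkR9000 e (by omega) (by omega)
  by_cases h10000 : e < 11000
  · exact chkRange_spec chkR10000 e (by omega) (by omega)
  by_cases h11000 : e < 12000
  · exact chkRange_spec chkR11000 e (by omega) (by omega)
  by_cases h12000 : e < 13000
  · exact chkRange_spec chkR12000 e (by omega) (by omega)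
  by_cases h13000 : e < 14000
  · exact chkRange_spec chkR13000 e (by omega) (by omega)
  by_cases h14000 : e < 15000
  · exact chkRange_spec chkR14000 e (by omega) (by omega)
  by_cases h15000 : e < 16000
  · exact chkRange_spec chkR15000 e (by omega) (by omega)
  by_cases h16000 : e < 17000
  · exact chkRange_spec chkR16000 e (by omega) (by omega)
  by_cases h17000 : e < 18000
  · exact chkRange_spec chkR17000 e (by omega) (by omega)
  by_cases h18000 : e < 19000
  · exact chkRange_spec chkR18000 e (by omega) (by omega)
  exact chkRange_spec chkR19000 e (by omega) (by omega)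

end Cfsg.Agent.Lib.Helper4.O73C
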