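import Cfsg.Agent.Lib.Helper4.O73C.C1

set_option autoImplicit false
set_option maxRecDepth 1000000

namespace Cfsg.Agent.Lib.Helper4.O73C

/-! # Kernel checks of the conjugation certificate -/

theorem chkR0 : chkRange 0 1000 = true := by decide +kernel

theorem chkR1000 : chkRange 1000 1000 = true := by decide +kernel

theorem chkR2000 : chkRange 2000 1000 = true := by decide +kernel

theorem chkR3000 : chkRange 3000 1000 = true := by decide +kernel

end Cfsg.Agent.Lib.Helper4.O73C
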