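import Cfsg.Agent.Lib.Helper4.O73C.K2
import Cfsg.Agent.Lib.Helper4.O73C.K3
import Cfsg.Agent.Lib.Helper4.O73C.A2

set_option autoImplicit false
set_option maxRecDepth 1000000

namespace Cfsg.Agent.Lib.Helper4.O73C

open Cfsg.Agent.Lib.Helper6 Cfsg.Agent.Lib.Helper6.TC Cfsg.Agent.Lib.Helper6.TCD

/-! # Every element of order three of the Sylow subgroup is conjugate to a representative -/

theorem eq_of_eq6 {x y : GG} {T U : ℕ → ℕ} (hx : GoodT φ x T) (hy : GoodT φ y U)
    (h : eq6 T U = true) : x = y := eq_of_good6 hx hy h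

theorem ne_of_eq6 {x y : GG} {T U : ℕ → ℕ} (hx : GoodT φ x T) (hy : GoodT φ y U)
    (h : eq6 T U = false) : x ≠ y := by
  intro e
  have h0 : ∀ b : Fin 364, T b.val = U b.val := by
    intro b
    rw [← hx b, ← hy b, e]
  have : eq6 T U = true := by
    unfold eq6
    rw [h0 ⟨0, by decide⟩, h0 ⟨1, by decide⟩, h0 ⟨20, by decide⟩, h0 ⟨84, by decide⟩,
      h0 ⟨3, by decide⟩, h0 ⟨4, by decide⟩]
    simp [Nat.beq_refl]
  rw [h] at this
  exact absurd this (by decide)

theorem rootW_lt : ∀ i < 7, ∀ c ∈ rootW i, c < 8 := by decide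

theorem root_chk : (List.range 7).all (fun i => eq6 (nfA1 (rootCode i)) (wapp O73a.px (rootW i))) = true := by
  decide +kernel

theorem nfE_root {i : ℕ} (hi : i < 7) : nfE (rootCode i) = elt (rootW i) :=
  eq_of_eq6 (good_nfE _) (good_elt _ (rootW_lt i hi)) (all_range_spec root_chk i hi)

/-- the representatives -/
noncomputable def YY : Fin 7 → Subgroup GG := fun i => Subgroup.zpowers (elt (rootW i.val))

theorem nfE_zero : nfE 0 = 1 :=
  eq_of_eq6 (good_nfE 0) goodT_one (by decide +kernel)

theorem chk_cases {e : ℕ} (h : chk e = true) :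
    (e = 0 ∨ mv3 e = true) ∨ (fusc e < 7 ∧ rootCode (fusc e) = e) ∨
    (parc e < 19683 ∧ rkc (parc e) < rkc e ∧ fusc e < 12 ∧
      (fuseChk (fusc e) e (parc e) = true ∨ fuseChk (fusc e) (parc e) e = true)) := by
  unfold chk at h
  rcases hk : kindc e with _ | _ | k
  · rw [hk] at h
    left
    have h' : (Nat.beq e 0 || mv3 e) = true := h
    rw [Bool.or_eq_true] at h'
    rcases h' with h' | h'
    · exact Or.inl (Nat.eq_of_beq_eq_true h')
    · exact Or.inr h'
  · rw [hk] at h
    right; left
    have h' : (Nat.blt (fusc e) 7 && Nat.beq (rootCode (fusc e)) e) = true := h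
    rw [Bool.and_eq_true] at h'
    exact ⟨Nat.blt_eq.mp h'.1, Nat.eq_of_beq_eq_true h'.2⟩
  · rw [hk] at h
    right; right
    have h' : (Nat.blt (parc e) 19683 && Nat.blt (rkc (parc e)) (rkc e) &&
        Nat.blt (fusc e) 12 &&
        Nat.rec (motive := fun _ => Bool) (fuseChk (fusc e) e (parc e))
          (fun _ _ => fuseChk (fusc e) (parc e) e) (dirc e)) = true := h
    simp only [Bool.and_eq_true] at h'
    obtain ⟨⟨⟨h1, h2⟩, h3⟩, h4⟩ := h'
    refine ⟨Nat.blt_eq.mp h1, Nat.blt_eq.mp h2, Nat.blt_eq.mp h3, ?_⟩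
    rcases hd : dirc e with _ | d
    · rw [hd] at h4
      exact Or.inl h4
    · rw [hd] at h4
      exact Or.inr h4

theorem fuse_eq {f e e' : ℕ} (hf : f < 12) (h : fuseChk f e e' = true) :
    nfE e * fE f = fE f * nfE e' :=
  eq_of_eq6 ((good_nfE e).mul (good_fE f hf)) ((good_fE f hf).mul (good_nfE e')) h

theorem cube_ne_one {e : ℕ} (h : mv3 e = true) : nfE e ^ 3 ≠ 1 := by
  have e3 : nfE e ^ 3 = nfE e * nfE e * nfE e := by rw [pow_succ, pow_two]
  rw [e3]
  refine ne_of_eq6 (((good_nfE e).mul (good_nfE e)).mul (good_nfE e)) goodT_one ?_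
  unfold mv3 at h
  rw [Bool.not_eq_true'] at h
  exact h

theorem cs_nfE : ∀ (n e : ℕ), e < 19683 → rkc e = n → orderOf (nfE e) = 3 → CS YY (nfE e) := by
  intro n
  induction n using Nat.strong_induction_on with
  | _ n ih =>
    intro e he hn ho
    rcases chk_cases (chk_all e he) with h | h | h
    · exfalso
      rcases h with h | h
      · rw [h, nfE_zero, orderOf_one] at ho
        exact absurd ho (by norm_num)
      · apply cube_ne_one h
        rw [← ho]
        exact pow_orderOf_eq_one _
    · obtain ⟨hi, hr⟩ := h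
      refine ⟨⟨fusc e, hi⟩, 1, ?_⟩
      rw [map_conj_zpowers, one_mul, inv_one, mul_one]
      have e1 : nfE e = elt (rootW (fusc e)) := by
        have := nfE_root hi
        rw [hr] at this
        exact this
      rw [e1]
      rfl
    · obtain ⟨hp, hrk, hf, h⟩ := h
      rcases h with h | h
      · have heq := fuse_eq hf h
        have ho' : orderOf (nfE (parc e)) = 3 := by rw [orderOf_eq_of_mul_eq heq, ho]
        exact CS_of_eq_conj YY heq (ih (rkc (parc e)) (by rw [← hn]; exact hrk) (parc e) hp rfl ho')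
      · have heq := fuse_eq hf h
        have heq' : nfE e * (fE (fusc e))⁻¹ = (fE (fusc e))⁻¹ * nfE (parc e) := by
          have : nfE (parc e) = fE (fusc e) * nfE e * (fE (fusc e))⁻¹ := by
            rw [← heq]
            group
          rw [this]
          group
        have ho' : orderOf (nfE (parc e)) = 3 := by rw [orderOf_eq_of_mul_eq heq', ho]
        exact CS_of_eq_conj YY heq' (ih (rkc (parc e)) (by rw [← hn]; exact hrk) (parc e) hp rfl ho')

/-- every element of order three of the Sylow subgroup generates a conjugate of a representative -/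
theorem cs_of_mem_PP {x : GG} (hx : x ∈ PP) (ho : orderOf x = 3) : CS YY x := by
  obtain ⟨e, he, rfl⟩ := exists_nfE hx
  exact cs_nfE (rkc e) e he rfl ho

end Cfsg.Agent.Lib.Helper4.O73C
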