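import Cfsg.Agent.Lib.Helper4.O73C.G1
import Cfsg.Agent.Lib.Helper4.O73C.D3

set_option autoImplicit false
set_option maxRecDepth 1000000

namespace Cfsg.Agent.Lib.Helper4.O73C

open Cfsg.Agent.Lib.Helper6 Cfsg.Agent.Lib.Helper6.TC Cfsg.Agent.Lib.Helper6.TCD
open Cfsg.Agent.Lib.Helper6.TCP.O73

/-! # The action of the group `O73` on 1080 points -/

theorem colchk2 : (List.range 8).all (fun c => (List.range 1080).all (fun p =>
    Nat.blt (px2 c p) 1080 && Nat.beq (px2 (invc INV c) (px2 c p)) p)) = true := by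
  decide +kernel

theorem relchk2 : base.all (fun b => (List.range 1080).all (fun p =>
    Nat.beq (wapp px2 b p) p)) = true := by
  decide +kernel

theorem hP2 : PHyp px2 1080 8 INV where
  Npos := by decide
  hinv1 := hinv1
  hinvinv := hinvinv
  hlt := by
    intro c hc p hp
    have h := List.all_eq_true.mp (List.all_eq_true.mp colchk2 c (List.mem_range.mpr hc)) p
      (List.mem_range.mpr hp)
    rw [Bool.and_eq_true] at h
    exact Nat.blt_eq.mp h.1
  hpx := by
    intro c hc p hp
    have h := List.all_eq_true.mp (List.all_eq_true.mp colchk2 c (List.mem_range.mpr hc)) p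
      (List.mem_range.mpr hp)
    rw [Bool.and_eq_true] at h
    exact Nat.eq_of_beq_eq_true h.2

theorem hfix2 : ∀ b ∈ base, ∀ p < 1080, wapp px2 b p = p := by
  intro b hb p hp
  exact Nat.eq_of_beq_eq_true
    (List.all_eq_true.mp (List.all_eq_true.mp relchk2 b hb) p (List.mem_range.mpr hp))

/-- the second permutation representation -/
theorem rep2 : ∃ ψ : GG →* Equiv.Perm (Fin 1080), ∀ w, (∀ c ∈ w, c < 8) → ∀ p : Fin 1080,
    ((ψ (PresentedGroup.mk Rels (wordElt gc w)))⁻¹ p).val = wapp px2 w p.val := by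
  have hrels : ∀ r ∈ Rels,
      FreeGroup.lift (fun g : Fin 8 => (colPerm hP2 g.val)⁻¹) r = 1 := by
    intro r hr
    obtain ⟨w, hw, hrw, hfix⟩ := rel_cover hP2 hfix2 r hr
      (FreeGroup.lift (fun g : Fin 8 => (colPerm hP2 g.val)⁻¹)) (by
        intro c hc
        rw [lift_ceOf hP2 hC (hP2.hinv1 c hc), lift_ceOf hP2 hC hc, colPerm_inv hP2 hc])
    rw [hrw, ← inv_eq_one]
    ext p
    rw [lift_wordElt hP2 hC w hw p, hfix p.val p.isLt]
    rfl
  refine ⟨PresentedGroup.toGroup hrels, ?_⟩
  intro w hw p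
  have : PresentedGroup.toGroup hrels (PresentedGroup.mk Rels (wordElt gc w)) =
      FreeGroup.lift (fun g : Fin 8 => (colPerm hP2 g.val)⁻¹) (wordElt gc w) := rfl
  rw [this]
  exact lift_wordElt hP2 hC w hw p

/-- the action on 1080 points -/
noncomputable def ψ : GG →* Equiv.Perm (Fin 1080) := Classical.choose rep2

theorem good2_elt (w : List ℕ) (hw : ∀ c ∈ w, c < 8) : GoodT ψ (elt w) (wapp px2 w) :=
  fun p => Classical.choose_spec rep2 w hw p

end Cfsg.Agent.Lib.Helper4.O73C
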