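import Cfsg.Agent.Lib.Helper4.O73C.L1
import Cfsg.Agent.Lib.Helper4.O73C.R1

set_option autoImplicit false
set_option maxRecDepth 1000000

namespace Cfsg.Agent.Lib.Helper4.O73C

open Cfsg.Agent.Lib.Helper6 Cfsg.Agent.Lib.Helper6.TC Cfsg.Agent.Lib.Helper6.TCD

/-! # The seven classes of subgroups of order three of the group `O73` -/

/-- conjugate cyclic subgroups move the same number of points -/
theorem support_card_eq_of_conj_zpowers {G α : Type*} [Group G] [DecidableEq α] [Fintype α]
    (ρ : G →* Equiv.Perm α) {x y g : G}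
    (h : (Subgroup.zpowers x).map (MulAut.conj g).toMonoidHom = Subgroup.zpowers y) :
    (ρ x).support.card = (ρ y).support.card := by
  rw [map_conj_zpowers] at h
  have h1 : g * x * g⁻¹ ∈ Subgroup.zpowers y := by
    rw [← h]
    exact Subgroup.mem_zpowers _
  have h2 : y ∈ Subgroup.zpowers (g * x * g⁻¹) := by
    rw [h]
    exact Subgroup.mem_zpowers _
  obtain ⟨k, hk⟩ := Subgroup.mem_zpowers_iff.mp h1
  obtain ⟨m, hm⟩ := Subgroup.mem_zpowers_iff.mp h2
  have e : (ρ (g * x * g⁻¹)).support.card = (ρ x).support.card := by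
    rw [map_mul, map_mul, map_inv]
    exact Equiv.Perm.card_support_conj
  apply le_antisymm
  · rw [← e, ← hk, map_zpow]
    exact Finset.card_le_card (Equiv.Perm.support_zpow_le _ _)
  · rw [← e, ← hm, map_zpow]
    exact Finset.card_le_card (Equiv.Perm.support_zpow_le _ _)

/-- the numbers of points moved by the representatives -/
def I1 (i : ℕ) : ℕ := [360, 315, 360, 333, 351, 351, 324].getD i 0
def I2 (i : ℕ) : ℕ := [1062, 1080, 1071, 1080, 1080, 1053, 972].getD i 0

theorem inv1_chk : (List.range 7).all (fun i => Nat.beq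
    ((List.range 364).filter (fun p => wapp O73a.px (rootW i) p != p)).length (I1 i)) = true := by
  decide +kernel

theorem inv2_chk : (List.range 7).all (fun i => Nat.beq
    ((List.range 1080).filter (fun p => wapp px2 (rootW i) p != p)).length (I2 i)) = true := by
  decide +kernel

theorem cube_chk : (List.range 7).all (fun i => eq6
    (fun p => wapp O73a.px (rootW i) (wapp O73a.px (rootW i) (wapp O73a.px (rootW i) p)))
    (fun p => p)) = true := by
  decide +kernel

theorem support1 {i : ℕ} (hi : i < 7) : (φ (elt (rootW i))).support.card = I1 i := by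
  rw [support_card_of_good (good_elt _ (rootW_lt i hi))]
  exact Nat.eq_of_beq_eq_true (all_range_spec inv1_chk i hi)

theorem support2 {i : ℕ} (hi : i < 7) : (ψ (elt (rootW i))).support.card = I2 i := by
  rw [support_card_of_good (good2_elt _ (rootW_lt i hi))]
  exact Nat.eq_of_beq_eq_true (all_range_spec inv2_chk i hi)

theorem I_inj : ∀ i < 7, ∀ j < 7, I1 i = I1 j → I2 i = I2 j → i = j := by decide

theorem root_cube {i : ℕ} (hi : i < 7) : elt (rootW i) ^ 3 = 1 := by
  have e3 : elt (rootW i) ^ 3 = elt (rootW i) * elt (rootW i) * elt (rootW i) := by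
    rw [pow_succ, pow_two]
  rw [e3]
  have hg := good_elt _ (rootW_lt i hi)
  exact eq_of_eq6 ((hg.mul hg).mul hg) goodT_one (all_range_spec cube_chk i hi)

theorem root_ne_one {i : ℕ} (hi : i < 7) : elt (rootW i) ≠ 1 := by
  intro h
  have h1 := support1 hi
  rw [h, map_one, Equiv.Perm.support_one, Finset.card_empty] at h1
  have : ∀ i < 7, I1 i ≠ 0 := by decide
  exact this i hi h1.symm

theorem orderOf_root {i : ℕ} (hi : i < 7) : orderOf (elt (rootW i)) = 3 :=
  orderOf_eq_prime (root_cube hi) (root_ne_one hi)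

theorem three_part_GG : (Nat.card GG).factorization 3 = 9 := by
  rw [card_GG]
  have h1 : 9 ≤ (4585351680 : ℕ).factorization 3 :=
    (Nat.prime_three.pow_dvd_iff_le_factorization (by norm_num)).mp (by norm_num)
  have h2 : ¬ 10 ≤ (4585351680 : ℕ).factorization 3 := by
    intro h
    have := (Nat.prime_three.pow_dvd_iff_le_factorization (by norm_num)).mpr h
    norm_num at this
  omega

/-- the group `O73` has exactly seven classes of subgroups of order three -/
theorem classes_GG : ∃ Y : Fin 7 → Subgroup GG, (∀ i, Nat.card (Y i) = 3) ∧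
    (∀ i j, (∃ g : GG, (Y i).map (MulAut.conj g).toMonoidHom = Y j) → i = j) ∧
    (∀ X : Subgroup GG, Nat.card X = 3 →
      ∃ i, ∃ g : GG, X.map (MulAut.conj g).toMonoidHom = Y i) := by
  haveI : Fact (Nat.Prime 3) := ⟨Nat.prime_three⟩
  refine ⟨YY, ?_, ?_, ?_⟩
  · intro i
    show Nat.card (Subgroup.zpowers (elt (rootW i.val))) = 3
    rw [Nat.card_zpowers, orderOf_root i.isLt]
  · rintro i j ⟨g, hg⟩
    have h1 := support_card_eq_of_conj_zpowers φ hg
    have h2 := support_card_eq_of_conj_zpowers ψ hg
    rw [support1 i.isLt, support1 j.isLt] at h1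
    rw [support2 i.isLt, support2 j.isLt] at h2
    exact Fin.ext (I_inj i.val i.isLt j.val j.isLt h1 h2)
  · intro X hX
    obtain ⟨g, hg⟩ := exists_conj_le_of_card (p := 3) PP
      (by rw [card_PP, three_part_GG]; norm_num) X hX
    have hc : Nat.card (X.map (MulAut.conj g).toMonoidHom) = 3 := by
      rw [Subgroup.card_map_of_injective (MulAut.conj g).injective]
      exact hX
    obtain ⟨x, hx, hx1⟩ := exists_ne_one_of_card_prime Nat.prime_three _ hc
    obtain ⟨hz, ho⟩ := eq_zpowers_of_card_prime Nat.prime_three _ hc hx hx1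
    obtain ⟨i, h, hh⟩ := cs_of_mem_PP (hg hx) ho
    refine ⟨i, h * g, ?_⟩
    rw [← map_conj_map_conj, hz]
    exact hh

end Cfsg.Agent.Lib.Helper4.O73C
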